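import Groth.Prelude.Def_Models
import Mathlib.Data.Fintype.BigOperators
import Mathlib.Algebra.Order.Field.Rat
import Mathlib.Tactic.Linarith
import Mathlib.Tactic.Positivity
import Mathlib.Tactic.Ring
import Mathlib.Tactic.FieldSimp

/-!
Basic facts about numerical types: row identities and a maximum principle for
"sub-invariant" non-negative vectors.
-/

set_option autoImplicit false
open Finset Models

namespace NumTypeLib

variable {n : ℕ} (T : Models.NumericalType n)

/-- Adjacency in the dual graph. -/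
def Adj (i j : Fin n) : Prop := i ≠ j ∧ 0 < T.a i j

theorem a_symm (i j : Fin n) : T.a i j = T.a j i := T.symm.apply j i

theorem Adj.symm {T : Models.NumericalType n} {i j : Fin n} (h : Adj T i j) : Adj T j i :=
  ⟨h.1.symm, by rw [a_symm]; exact h.2⟩

theorem adj_of_ne_zero {i j : Fin n} (h : i ≠ j) (ha : T.a i j ≠ 0) : Adj T i j :=
  ⟨h, lt_of_le_of_ne (T.offDiag_nonneg i j h) (Ne.symm ha)⟩

theorem w_le_of_pos {i j : Fin n} (h : 0 < T.a i j) : T.w i ≤ T.a i j :=
  Int.le_of_dvd h (T.w_dvd i j)

theorem w_le_of_pos' {i j : Fin n} (h : 0 < T.a i j) : T.w j ≤ T.a i j := by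
  rw [a_symm] at h ⊢; exact w_le_of_pos T h

theorem row_sum (i : Fin n) : ∑ j, T.a i j * T.m j = 0 := by
  have := congrFun T.mulVec_m i
  simpa [Matrix.mulVec, dotProduct] using this

theorem row_erase (i : Fin n) :
    ∑ j ∈ univ.erase i, T.a i j * T.m j = -(T.a i i * T.m i) := by
  have h := row_sum T i
  rw [← Finset.add_sum_erase univ (fun j => T.a i j * T.m j) (mem_univ i)] at h
  linarith

theorem row_le (i : Fin n) (S : Finset (Fin n)) (hS : i ∉ S) :
    ∑ j ∈ S, T.a i j * T.m j ≤ -(T.a i i * T.m i) := by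
  rw [← row_erase T i]
  refine Finset.sum_le_sum_of_subset_of_nonneg ?_ ?_
  · intro j hj
    exact mem_erase.mpr ⟨fun h => hS (h ▸ hj), mem_univ j⟩
  · intro j hj _
    exact mul_nonneg (T.offDiag_nonneg i j (mem_erase.mp hj).1.symm) (T.m_pos j).le

theorem exists_adj_out (I : Finset (Fin n)) (h1 : I.Nonempty) (h2 : I ≠ univ) :
    ∃ i ∈ I, ∃ j ∉ I, Adj T i j := by
  obtain ⟨i, hi, j, hj, hij⟩ := T.connected I h1 h2
  exact ⟨i, hi, j, hj, adj_of_ne_zero T (fun h => hj (h ▸ hi)) hij⟩

theorem exists_adj (hn : 1 < n) (i : Fin n) : ∃ j, Adj T i j := by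
  have hne : ({i} : Finset (Fin n)) ≠ univ := by
    intro h
    have := congrArg Finset.card h
    simp at this
    omega
  obtain ⟨k, hk, j, -, hij⟩ := exists_adj_out T {i} (singleton_nonempty i) hne
  rw [mem_singleton] at hk
  exact ⟨j, hk ▸ hij⟩

theorem diag_neg (hn : 1 < n) (i : Fin n) : T.a i i < 0 := by
  obtain ⟨j, hne, hpos⟩ := exists_adj T hn i
  have := row_le T i {j} (by simpa using hne)
  rw [sum_singleton] at this
  have h1 : 0 < T.a i j * T.m j := mul_pos hpos (T.m_pos j)
  by_contra h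
  have : 0 ≤ T.a i i * T.m i := mul_nonneg (not_lt.mp h) (T.m_pos i).le
  linarith

/-- A nonempty set closed under adjacency is everything. -/
theorem eq_univ_of_closed (I : Finset (Fin n)) (h1 : I.Nonempty)
    (h : ∀ i ∈ I, ∀ j, Adj T i j → j ∈ I) : I = univ := by
  by_contra h2
  obtain ⟨i, hi, j, hj, hij⟩ := exists_adj_out T I h1 h2
  exact hj (h i hi j hij)

/-- Maximum principle: a non-negative non-zero vector `x` with `(a x)_i ≥ 0` on its support
is proportional to `m`. -/
theorem sub_invariant (x : Fin n → ℤ) (hx : ∀ i, 0 ≤ x i) (hne : ∃ i, 0 < x i)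
    (h : ∀ i, 0 < x i → 0 ≤ ∑ j, T.a i j * x j) :
    (∀ i, 0 < x i) ∧ (∀ i, ∑ j, T.a i j * x j = 0) ∧ ∀ i j, x i * T.m j = x j * T.m i := by
  classical
  obtain ⟨i₀, hi₀⟩ := hne
  obtain ⟨M, -, hM⟩ := Finset.exists_max_image univ (fun i => (x i : ℚ) / T.m i)
    ⟨i₀, mem_univ i₀⟩
  have hmq : ∀ i, (0 : ℚ) < T.m i := fun i => by exact_mod_cast T.m_pos i
  have hmax : ∀ i, x i * T.m M ≤ x M * T.m i := by
    intro i
    have := hM i (mem_univ i)
    rw [div_le_div_iff₀ (hmq i) (hmq M)] at this
    exact_mod_cast this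
  let I : Finset (Fin n) := univ.filter fun i => x i * T.m M = x M * T.m i
  have hMpos : 0 < x M := by
    have h1 := hmax i₀
    have h2 : 0 < x i₀ * T.m M := mul_pos hi₀ (T.m_pos M)
    by_contra hc
    have : x M * T.m i₀ ≤ 0 :=
      mul_nonpos_of_nonpos_of_nonneg (not_lt.mp hc) (T.m_pos i₀).le
    linarith
  have hI : ∀ i, x i * T.m M = x M * T.m i → 0 < x i := by
    intro i hi
    have : 0 < x i * T.m M := by rw [hi]; exact mul_pos hMpos (T.m_pos i)
    exact pos_of_mul_pos_left this (T.m_pos M).le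
  have hclosed : I = univ := by
    apply eq_univ_of_closed T I ⟨M, by simp [I]⟩
    intro i hi j hij
    simp only [I, mem_filter, mem_univ, true_and] at hi ⊢
    have hsum : (0 : ℤ) ≤ ∑ k, T.a i k * (x k * T.m M - x M * T.m k) := by
      have h1 := h i (hI i hi)
      have h2 := row_sum T i
      have : ∑ k, T.a i k * (x k * T.m M - x M * T.m k) =
          T.m M * ∑ k, T.a i k * x k - x M * ∑ k, T.a i k * T.m k := by
        rw [Finset.mul_sum, Finset.mul_sum, ← Finset.sum_sub_distrib]
        exact Finset.sum_congr rfl fun k _ => by ring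
      rw [this, h2, mul_zero, sub_zero]
      exact mul_nonneg (T.m_pos M).le h1
    have hterm : ∀ k ∈ (univ : Finset (Fin n)),
        T.a i k * (x k * T.m M - x M * T.m k) ≤ 0 := by
      intro k _
      rcases eq_or_ne i k with rfl | hik
      · rw [hi]; simp
      · exact mul_nonpos_of_nonneg_of_nonpos (T.offDiag_nonneg i k hik)
          (sub_nonpos.mpr (hmax k))
    have hz := (Finset.sum_eq_zero_iff_of_nonpos hterm).mp
      (le_antisymm (Finset.sum_nonpos hterm) hsum) j (mem_univ j)
    rcases mul_eq_zero.mp hz with h0 | h0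
    · exact absurd h0 hij.2.ne'
    · linarith
  have hall : ∀ i, x i * T.m M = x M * T.m i := by
    intro i
    have : i ∈ I := by rw [hclosed]; exact mem_univ i
    simpa [I] using this
  have hprop : ∀ i j, x i * T.m j = x j * T.m i := by
    intro i j
    have h1 := hall i
    have h2 := hall j
    have : T.m M * (x i * T.m j) = T.m M * (x j * T.m i) := by linear_combination (T.m j) * h1 - (T.m i) * h2
    exact mul_left_cancel₀ (T.m_pos M).ne' this
  refine ⟨fun i => hI i (hall i), fun i => ?_, hprop⟩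
  have : T.m M * ∑ k, T.a i k * x k = 0 := by
    have h2 := row_sum T i
    calc T.m M * ∑ k, T.a i k * x k = ∑ k, x M * (T.a i k * T.m k) := by
          rw [Finset.mul_sum]
          exact Finset.sum_congr rfl fun k _ => by linear_combination (T.a i k) * hall k
      _ = 0 := by rw [← Finset.mul_sum, h2, mul_zero]
  exact (mul_eq_zero.mp this).resolve_left (T.m_pos M).ne'

/-- For `n > 2` two adjacent `(-2)`-indices satisfy `a_ij² < 4 w_i w_j`. -/
theorem sq_lt_of_minusTwo (hn : 2 < n) {i j : Fin n} (hij : i ≠ j) (hi : T.IsMinusTwo i)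
    (hj : T.IsMinusTwo j) (hpos : 0 < T.a i j) : T.a i j ^ 2 < 4 * T.w i * T.w j := by
  by_contra hc
  rw [not_lt] at hc
  let x : Fin n → ℤ := fun k => if k = i then T.a i j else if k = j then 2 * T.w i else 0
  have hx : ∀ k, 0 ≤ x k := by
    intro k
    have := T.w_pos i
    simp only [x]; split_ifs <;> omega
  have hsum : ∀ r, ∑ k, T.a r k * x k = T.a r i * T.a i j + T.a r j * (2 * T.w i) := by
    intro r
    rw [← Finset.add_sum_erase univ _ (mem_univ i),
      ← Finset.add_sum_erase (univ.erase i) _ (mem_erase.mpr ⟨hij.symm, mem_univ j⟩)]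
    rw [Finset.sum_eq_zero]
    · simp [x, hij.symm]
    · intro k hk
      simp only [mem_erase] at hk
      simp [x, hk.1, hk.2.1]
  have hh : ∀ r, 0 < x r → 0 ≤ ∑ k, T.a r k * x k := by
    intro r hr
    rw [hsum]
    simp only [x] at hr
    split_ifs at hr with h1 h2
    · subst h1; rw [hi.2]; ring_nf; exact le_refl _
    · subst h2; rw [a_symm T r i, hj.2]; nlinarith
    · exact absurd hr (lt_irrefl 0)
  have hfull := (sub_invariant T x hx ⟨i, by simp [x, hpos]⟩ hh).1
  obtain ⟨k, hk⟩ : ∃ k : Fin n, k ∉ ({i, j} : Finset (Fin n)) := by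
    by_contra hcon
    rw [not_exists] at hcon
    have hsub : (univ : Finset (Fin n)) ⊆ {i, j} := fun k _ => not_not.mp (hcon k)
    have := (Finset.card_le_card hsub).trans Finset.card_le_two
    simp at this
    omega
  simp only [mem_insert, mem_singleton, not_or] at hk
  simpa [x, hk.1, hk.2] using hfull k

end NumTypeLib
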