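import Groth.Agent.NumType.Basic

/-!
Contributions to the genus, minimal types, genus one.
-/

set_option autoImplicit false
open Finset Models

namespace NumTypeLib

variable {n : ℕ} (T : Models.NumericalType n)

/-- Twice the contribution of an index to `genus - 1`. -/
def contrib (i : Fin n) : ℤ := T.m i * (2 * T.w i * (T.g i - 1) - T.a i i)

theorem two_dvd_double_sum_sub_diag {ι : Type*} [DecidableEq ι] (f : ι → ι → ℤ)
    (hf : ∀ i j, f i j = f j i) (s : Finset ι) :
    (2 : ℤ) ∣ ∑ i ∈ s, ∑ j ∈ s, f i j - ∑ i ∈ s, f i i := by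
  induction s using Finset.induction with
  | empty => simp
  | insert x s hx ih =>
    simp only [sum_insert hx, sum_add_distrib]
    obtain ⟨k, hk⟩ := ih
    refine ⟨k + ∑ j ∈ s, f x j, ?_⟩
    have h2 : ∑ i ∈ s, f i x = ∑ j ∈ s, f x j := sum_congr rfl fun i _ => hf i x
    rw [h2]
    linarith

theorem two_dvd_sum_diag : (2 : ℤ) ∣ ∑ i, T.m i * T.a i i := by
  have h := two_dvd_double_sum_sub_diag (fun i j => T.m i * T.a i j * T.m j)
    (fun i j => by rw [a_symm T i j]; ring) univ
  have hz : ∑ i, ∑ j, T.m i * T.a i j * T.m j = 0 := by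
    refine sum_eq_zero fun i _ => ?_
    simp only [mul_assoc]
    rw [← mul_sum, row_sum, mul_zero]
  rw [hz, zero_sub, dvd_neg] at h
  have h2 : (2 : ℤ) ∣ ∑ i, (T.m i * T.a i i * T.m i - T.m i * T.a i i) := by
    refine Finset.dvd_sum fun i _ => ?_
    have : T.m i * T.a i i * T.m i - T.m i * T.a i i = T.a i i * (T.m i * (T.m i - 1)) := by ring
    rw [this]
    exact dvd_mul_of_dvd_right (by
      rcases Int.emod_two_eq (T.m i) with h | h
      · exact dvd_mul_of_dvd_left (Int.dvd_of_emod_eq_zero h) _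
      · exact dvd_mul_of_dvd_right (by omega) _) _
  rw [sum_sub_distrib] at h2
  simpa using dvd_sub h h2

theorem two_mul_genus : 2 * T.genus = 2 + ∑ i, contrib T i := by
  obtain ⟨k, hk⟩ := two_dvd_sum_diag T
  simp only [Models.NumericalType.genus, contrib, hk]
  rw [Int.mul_ediv_cancel_left _ two_ne_zero]
  have : ∑ i, T.m i * (2 * T.w i * (T.g i - 1) - T.a i i) =
      2 * ∑ i, T.m i * T.w i * (T.g i - 1) - ∑ i, T.m i * T.a i i := by
    rw [mul_sum, ← sum_sub_distrib]
    exact sum_congr rfl fun i _ => by ring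
  rw [this, hk]; ring

/-- `a_ii = - k w_i` with `k ≥ 1` when there are at least two indices. -/
theorem exists_diag (hn : 1 < n) (i : Fin n) : ∃ k, 1 ≤ k ∧ T.a i i = -(k * T.w i) := by
  obtain ⟨k, hk⟩ := T.w_dvd i i
  refine ⟨-k, ?_, by rw [hk]; ring⟩
  have h := diag_neg T hn i
  rw [hk] at h
  by_contra hc
  exact absurd h (not_lt.mpr (mul_nonneg (T.w_pos i).le (by omega)))

theorem isMinusOne_of_contrib_neg (hn : 1 < n) {i : Fin n} (h : contrib T i < 0) :
    T.IsMinusOne i := by
  obtain ⟨k, hk, hki⟩ := exists_diag T hn i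
  have hg := T.g_nonneg i
  have h1 : T.m i * T.w i * (2 * (T.g i - 1) + k) < 0 := by
    have : contrib T i = T.m i * T.w i * (2 * (T.g i - 1) + k) := by rw [contrib, hki]; ring
    linarith
  have h2 : 2 * (T.g i - 1) + k < 0 := by
    by_contra hc
    exact absurd h1 (not_lt.mpr (mul_nonneg (mul_pos (T.m_pos i) (T.w_pos i)).le (not_lt.mp hc)))
  exact ⟨by omega, by rw [hki, show k = 1 by omega]; ring⟩

theorem contrib_nonneg (hn : 1 < n) {i : Fin n} (h : ¬ T.IsMinusOne i) : 0 ≤ contrib T i :=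
  not_lt.mp fun hc => h (isMinusOne_of_contrib_neg T hn hc)

theorem isMinusTwo_of_contrib_zero (hn : 1 < n) {i : Fin n} (h : contrib T i = 0) :
    T.IsMinusTwo i := by
  obtain ⟨k, hk, hki⟩ := exists_diag T hn i
  have hg := T.g_nonneg i
  have h1 : T.m i * T.w i * (2 * (T.g i - 1) + k) = 0 := by
    rw [← h, contrib, hki]; ring
  have h2 : 2 * (T.g i - 1) + k = 0 :=
    (mul_eq_zero.mp h1).resolve_left (mul_pos (T.m_pos i) (T.w_pos i)).ne'
  exact ⟨by omega, by rw [hki, show k = 2 by omega]; ring⟩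

theorem one_le_genus (hn : 1 < n) (hmin : T.IsMinimal) : 1 ≤ T.genus := by
  have h := two_mul_genus T
  have : 0 ≤ ∑ i, contrib T i := sum_nonneg fun i _ => contrib_nonneg T hn (hmin i)
  omega

theorem all_minusTwo (hn : 1 < n) (hmin : T.IsMinimal) (hg : T.genus = 1) (i : Fin n) :
    T.IsMinusTwo i := by
  have h := two_mul_genus T
  refine isMinusTwo_of_contrib_zero T hn ?_
  exact (sum_eq_zero_iff_of_nonneg fun j _ => contrib_nonneg T hn (hmin j)).mp (by omega) i
    (mem_univ i)

end NumTypeLib
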