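import Groth.Agent.NumType.Genus
import Mathlib.Data.Finset.Powerset

/-!
The topological genus of a numerical type.
-/

set_option autoImplicit false
open Finset Models

namespace NumTypeLib

variable {n : ℕ} (T : Models.NumericalType n)

theorem diag_nonpos (i : Fin n) : T.a i i ≤ 0 := by
  rcases Nat.lt_or_ge 1 n with h | h
  · exact (diag_neg T h i).le
  · have h0 := row_erase T i
    rw [sum_eq_zero (fun j hj => absurd (Fin.ext (by omega)) (mem_erase.mp hj).1)] at h0
    have h1 : T.a i i * T.m i = 0 := by linarith
    exact ((mul_eq_zero.mp h1).resolve_right (T.m_pos i).ne').le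

/-- Edge indicator. -/
def ind (i j : Fin n) : ℤ := if 0 < T.a i j then 1 else 0

theorem ind_symm (i j : Fin n) : ind T i j = ind T j i := by simp [ind, a_symm T i j]

theorem ind_self (i : Fin n) : ind T i i = 0 := by
  have := diag_nonpos T i
  simp [ind, this]

theorem ind_nonneg (i j : Fin n) : 0 ≤ ind T i j := by unfold ind; split_ifs <;> norm_num

/-- `2 (e - v)` for the induced graph. -/
def excess (K : Finset (Fin n)) : ℤ := ∑ i ∈ K, ((∑ j ∈ K, ind T i j) - 2)

theorem excess_insert {K : Finset (Fin n)} {x : Fin n} (hx : x ∉ K) :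
    excess T (insert x K) = excess T K + 2 * (∑ j ∈ K, ind T x j) - 2 := by
  simp only [excess, sum_insert hx, ind_self, sum_sub_distrib, sum_add_distrib]
  rw [sum_congr rfl fun i _ => ind_symm T i x]
  ring

theorem excess_univ : excess T univ = 2 * (T.topGenus - 1) := by
  have hcard : (2 : ℤ) * T.edgeCount = ∑ i, ∑ j, ind T i j := by
    have hle : ∀ i, ¬ 0 < T.a i i := fun i => not_lt.mpr (diag_nonpos T i)
    rw [← Fintype.sum_prod_type' (f := fun i j => ind T i j)]
    simp only [ind, sum_boole]
    have hsplit : (univ.filter fun p : Fin n × Fin n => 0 < T.a p.1 p.2) =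
        (univ.filter fun p : Fin n × Fin n => p.1 < p.2 ∧ 0 < T.a p.1 p.2) ∪
          (univ.filter fun p : Fin n × Fin n => p.2 < p.1 ∧ 0 < T.a p.1 p.2) := by
      ext p
      simp only [mem_union, mem_filter, mem_univ, true_and]
      constructor
      · intro h
        rcases lt_trichotomy p.1 p.2 with h' | h' | h'
        · exact Or.inl ⟨h', h⟩
        · rw [h'] at h; exact absurd h (hle _)
        · exact Or.inr ⟨h', h⟩
      · rintro (⟨-, h⟩ | ⟨-, h⟩) <;> exact h
    rw [hsplit, card_union_of_disjoint]
    · have : (univ.filter fun p : Fin n × Fin n => p.2 < p.1 ∧ 0 < T.a p.1 p.2).card =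
          T.edgeCount := by
        refine card_equiv (Equiv.prodComm _ _) fun p => ?_
        simp [a_symm T p.1 p.2]
      rw [this]
      simp only [Models.NumericalType.edgeCount]
      push_cast
      ring
    · refine disjoint_filter.mpr fun p _ h h' => ?_
      exact absurd h.1 (not_lt.mpr h'.1.le)
  simp only [excess, sum_sub_distrib, sum_const, card_univ, Fintype.card_fin,
    Models.NumericalType.topGenus]
  rw [← hcard]
  push_cast
  ring

theorem neg_two_le_excess : -2 ≤ excess T univ := by
  classical
  have key : ∀ k, k < n → ∃ K : Finset (Fin n), K.card = k + 1 ∧ -2 ≤ excess T K := by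
    intro k hk
    induction k with
    | zero => exact ⟨{⟨0, hk⟩}, by simp, by simp [excess, ind_self]⟩
    | succ k ih =>
      obtain ⟨K, hc, he⟩ := ih (by omega)
      obtain ⟨i, hi, j, hj, hij⟩ := exists_adj_out T K (card_pos.mp (by omega))
        (fun h => by rw [h, card_univ, Fintype.card_fin] at hc; omega)
      refine ⟨insert j K, by rw [card_insert_of_notMem hj, hc], ?_⟩
      rw [excess_insert T hj]
      have h1 : ind T j i ≤ ∑ l ∈ K, ind T j l :=
        single_le_sum (fun l _ => ind_nonneg T j l) hi
      have h2 : ind T j i = 1 := by simp [ind, hij.symm.2]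
      linarith
  obtain ⟨K, hc, he⟩ := key (n - 1) (by have := T.pos; omega)
  have : K = univ := eq_univ_of_card K (by rw [Fintype.card_fin]; have := T.pos; omega)
  rwa [this] at he

theorem excess_le_contrib (hn : 1 < n) (hmin : T.IsMinimal) :
    excess T univ ≤ ∑ i, contrib T i := by
  classical
  obtain ⟨K, -, hK⟩ := exists_max_image (univ : Finset (Finset (Fin n)))
    (fun K => (n + 1) * excess T K - (K.card : ℤ)) univ_nonempty
  have hmax : ∀ K', excess T K' ≤ excess T K := by
    intro K'
    by_contra hc
    have h := hK K' (mem_univ _)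
    have h1 : (K'.card : ℤ) ≤ n := by exact_mod_cast by simpa using card_le_univ K'
    have h2 : ((n : ℤ) + 1) * (excess T K + 1) ≤ ((n : ℤ) + 1) * excess T K' :=
      mul_le_mul_of_nonneg_left (by omega) (by positivity)
    linarith [show (0 : ℤ) ≤ K.card by positivity]
  have hdeg : ∀ i ∈ K, 2 ≤ ∑ j ∈ K, ind T i j := by
    intro i hi
    have e : insert i (K.erase i) = K := insert_erase hi
    have h := excess_insert T (notMem_erase i K)
    rw [e] at h
    have hsum : ∑ j ∈ K, ind T i j = ∑ j ∈ K.erase i, ind T i j := by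
      rw [← add_sum_erase K _ hi, ind_self, zero_add]
    have h' := hK (K.erase i) (mem_univ _)
    have hcard : ((K.erase i).card : ℤ) = (K.card : ℤ) - 1 := by
      rw [card_erase_of_mem hi]
      have := card_pos.mpr ⟨i, hi⟩
      omega
    rw [hsum]
    by_contra hc
    have h3 : ((n : ℤ) + 1) * excess T K ≤ ((n : ℤ) + 1) * excess T (K.erase i) :=
      mul_le_mul_of_nonneg_left (by omega) (by positivity)
    linarith
  let X : Fin n → ℤ := fun i => (∑ j ∈ K, ind T i j * T.m j) - 2 * T.m i
  have hX : ∀ i, X i ≤ contrib T i := by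
    intro i
    have h0 := contrib_nonneg T hn (hmin i)
    have hrow : T.w i * ∑ j ∈ K, ind T i j * T.m j ≤ -(T.a i i * T.m i) := by
      refine le_trans ?_ (row_le T i (K.filter fun j => 0 < T.a i j) ?_)
      · rw [sum_filter, mul_sum]
        refine sum_le_sum fun j _ => ?_
        unfold ind
        split_ifs with h
        · rw [one_mul]
          exact mul_le_mul_of_nonneg_right (w_le_of_pos T h) (T.m_pos j).le
        · simp
      · simp [diag_nonpos T i]
    have hg : 0 ≤ 2 * T.w i * T.g i * T.m i :=
      mul_nonneg (mul_nonneg (mul_nonneg (by norm_num) (T.w_pos i).le) (T.g_nonneg i))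
        (T.m_pos i).le
    have h2 : T.w i * X i ≤ contrib T i := by
      have : contrib T i = -(T.a i i * T.m i) + 2 * T.w i * T.g i * T.m i
          - 2 * T.w i * T.m i := by rw [contrib]; ring
      simp only [X, mul_sub]
      linarith
    by_cases hX0 : 0 ≤ X i
    · exact (le_mul_of_one_le_left hX0 (T.w_pos i)).trans h2
    · omega
  calc excess T univ ≤ excess T K := hmax univ
    _ ≤ ∑ j ∈ K, ((∑ i ∈ K, ind T j i) - 2) * T.m j := by
        refine sum_le_sum fun i hi => ?_
        exact le_mul_of_one_le_right (by linarith [hdeg i hi]) (T.m_pos i)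
    _ = ∑ i ∈ K, X i := by
        simp only [X, sub_mul, sum_sub_distrib, sum_mul]
        congr 1
        rw [sum_comm]
        exact sum_congr rfl fun i _ => sum_congr rfl fun j _ => by rw [ind_symm T j i]
    _ ≤ ∑ i ∈ K, contrib T i := sum_le_sum fun i _ => hX i
    _ ≤ ∑ i, contrib T i :=
        sum_le_sum_of_subset_of_nonneg (subset_univ K) fun i _ _ => contrib_nonneg T hn (hmin i)

end NumTypeLib
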