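import Groth.Agent.NumType.Classify

/-!
Proper subgraphs of `(-2)`-indices: paths and branched paths.
-/

set_option autoImplicit false
open Finset Models

namespace NumTypeLib

variable {n : ℕ} {T : Models.NumericalType n}

/-- Extend a finite sequence. -/
def ofFn {k : ℕ} (f : Fin (k + 1) → Fin n) : ℕ → Fin n :=
  fun t => if h : t < k + 1 then f ⟨t, h⟩ else f 0

theorem ofFn_val {k : ℕ} (f : Fin (k + 1) → Fin n) (j : Fin (k + 1)) : ofFn f j.val = f j := by
  simp [ofFn, j.isLt]

theorem adj_emb {k : ℕ} {v : Fin k → Fin n} (hv : Function.Injective v) {i j : Fin k} (hij : i ≠ j)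
    (h : T.a (v i) (v j) ≠ 0) : Adj T (v i) (v j) :=
  adj_of_ne_zero T (fun e => hij (hv e)) h

theorem isPath_ofFn {k : ℕ} (f : Fin (k + 1) → Fin n) (hf : Function.Injective f)
    (h2 : ∀ j, T.IsMinusTwo (f j))
    (h : ∀ j j' : Fin (k + 1), j'.val = j.val + 1 → T.a (f j) (f j') ≠ 0) :
    IsPath T (k + 1) (ofFn f) where
  inj i j hi hj e := by
    have := hf (show f ⟨i, hi⟩ = f ⟨j, hj⟩ by simpa [ofFn, hi, hj] using e)
    simpa using this
  adj i hi := by
    have := adj_emb (T := T) hf (i := ⟨i, by omega⟩) (j := ⟨i + 1, hi⟩) (by simp)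
      (h _ _ rfl)
    simpa [ofFn, hi, show i < k + 1 by omega] using this
  two i hi := by simpa [ofFn, hi] using h2 ⟨i, hi⟩

theorem false_of_hasAff {k : ℕ} (h : HasAff T k) (hk : k < n) : False := by
  have := h.size; omega

theorem path_chord_zero {L : ℕ} {P : ℕ → Fin n} (hP : IsPath T L P) (hL : L < n) {i j : ℕ}
    (hij : i + 1 < j) (hj : j < L) : T.a (P i) (P j) = 0 := by
  by_contra h
  have hne : P i ≠ P j := fun e => by have := hP.inj _ _ (by omega) hj e; omega
  exact false_of_hasAff (chord_hasAff hP hij hj (adj_of_ne_zero T hne h)) (by omega)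

theorem weight_const {L : ℕ} {P : ℕ → Fin n} {d : ℕ} (hd : d < L)
    (hs : ∀ t, t < d → Simple T (P t) (P (t + 1))) : ∀ t, t ≤ d → T.w (P t) = T.w (P 0) := by
  intro t
  induction t with
  | zero => exact fun _ => rfl
  | succ t ih =>
    intro ht
    have h := hs t (by omega)
    rw [← h.2, h.1, ih (by omega)]

/-- Ratios along a non-simple edge. -/
theorem ratio_lt (hn : 2 < n) {u v : Fin n} (hu : T.IsMinusTwo u) (hv : T.IsMinusTwo v)
    (h : Adj T u v) : ∃ p q : ℤ, T.a u v = T.w u * p ∧ T.a u v = T.w v * q ∧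
      0 < p ∧ 0 < q ∧ p * q < 4 := by
  obtain ⟨p, hp⟩ := T.w_dvd u v
  obtain ⟨q, hq⟩ : T.w v ∣ T.a u v := a_symm T u v ▸ T.w_dvd v u
  refine ⟨p, q, hp, hq, pos_of_mul_pos_right (hp ▸ h.2) (T.w_pos u).le,
    pos_of_mul_pos_right (hq ▸ h.2) (T.w_pos v).le, ?_⟩
  have := sq_lt_of_minusTwo T hn h.1 hu hv h.2
  rw [sq] at this
  nth_rewrite 1 [hp] at this
  rw [hq] at this
  have hww : 0 < T.w u * T.w v := mul_pos (T.w_pos u) (T.w_pos v)
  have h4 : (T.w u * T.w v) * (p * q) < (T.w u * T.w v) * 4 := by linarith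
  exact lt_of_mul_lt_mul_left h4 hww.le

/-- In a proper path a non-simple edge has weights `w, 2w` and value `2w`. -/
theorem path_double {L : ℕ} {P : ℕ → Fin n} (hP : IsPath T L P) (hn : 3 < n) (hL : 3 ≤ L)
    {d : ℕ} (hd : d + 1 < L) (hns : ¬ Simple T (P d) (P (d + 1))) :
    (T.a (P d) (P (d + 1)) = 2 * T.w (P d) ∧ T.w (P (d + 1)) = 2 * T.w (P d)) ∨
      (T.a (P d) (P (d + 1)) = 2 * T.w (P (d + 1)) ∧ T.w (P d) = 2 * T.w (P (d + 1))) := by
  obtain ⟨p, q, hp, hq, hp0, hq0, hpq⟩ :=
    ratio_lt (by omega) (hP.two d (by omega)) (hP.two (d + 1) hd) (hP.adj d hd)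
  have htrip : p < 3 ∧ q < 3 := by
    by_contra hc
    have hT : Trip T (P d) (P (d + 1)) ∨ Trip T (P (d + 1)) (P d) := by
      simp only [Trip, a_symm T (P (d + 1)) (P d)]
      rcases not_and_or.mp hc with hc | hc
      · left; rw [hp]; nlinarith [T.w_pos (P d)]
      · right; rw [hq]; nlinarith [T.w_pos (P (d + 1))]
    rcases Nat.eq_zero_or_pos d with h0 | h0
    · subst h0
      refine false_of_hasAff (hasAff_g2 (hP.seg 0 3 (by omega)).rev ?_) hn
      simpa using hT.symm
    · refine false_of_hasAff (hasAff_g2 (hP.seg (d - 1) 3 (by omega)) ?_) hn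
      simpa [show 1 + (d - 1) = d by omega, show 2 + (d - 1) = d + 1 by omega] using hT
  obtain ⟨h1, h1'⟩ := htrip
  interval_cases p <;> interval_cases q
  · exact absurd ⟨by rw [hp, mul_one], by rw [hq, mul_one]⟩ hns
  · exact Or.inr ⟨by linarith, by linarith⟩
  · exact Or.inl ⟨by linarith, by linarith⟩
  · omega

theorem path_one_double {L : ℕ} {P : ℕ → Fin n} (hP : IsPath T L P) (hL : L < n) {d e : ℕ}
    (hde : d < e) (he : e + 1 < L) (hd : ¬ Simple T (P d) (P (d + 1))) :
    Simple T (P e) (P (e + 1)) := by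
  by_contra hns
  refine false_of_hasAff (hasAff_chain (k := e - d + 2) (by omega)
    (hP.seg d (e - d + 2) (by omega)) ?_ ?_) (by omega)
  · simpa [show 1 + d = d + 1 by omega] using hd
  · simpa [show e - d + d = e by omega, show e - d + 1 + d = e + 1 by omega] using hns

theorem path_inner_simple {L : ℕ} {P : ℕ → Fin n} (hP : IsPath T L P) (hL : 5 ≤ L) (hn : L < n)
    {d : ℕ} (h0 : 0 < d) (hd : d + 2 < L) : Simple T (P d) (P (d + 1)) := by
  by_contra hns
  rcases Nat.lt_or_ge d 2 with h | h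
  · obtain rfl : d = 1 := by omega
    refine false_of_hasAff (hasAff_f4 (hP.seg 0 5 (by omega)).rev ?_) (by omega)
    simpa using fun h => hns h.symm
  · refine false_of_hasAff (hasAff_f4 (hP.seg (d - 2) 5 (by omega)) ?_) (by omega)
    simpa [show 2 + (d - 2) = d by omega, show 3 + (d - 2) = d + 1 by omega] using hns

/-- Normal form of a long proper path. -/
theorem path_long {L : ℕ} {P : ℕ → Fin n} (hP : IsPath T L P) (hL : 5 ≤ L) (hn : L < n) :
    ∃ (Q : ℕ → Fin n) (w : ℤ), ((∀ t, t < L → Q t = P t) ∨ (∀ t, t < L → Q t = P (L - 1 - t))) ∧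
      IsPath T L Q ∧
      (((∀ t, t < L → T.w (Q t) = w) ∧ ∀ t, t + 1 < L → T.a (Q t) (Q (t + 1)) = w) ∨
        ((∀ t, t + 1 < L → T.w (Q t) = w) ∧ T.w (Q (L - 1)) = 2 * w ∧
          (∀ t, t + 2 < L → T.a (Q t) (Q (t + 1)) = w) ∧ T.a (Q (L - 2)) (Q (L - 1)) = 2 * w) ∨
        ((∀ t, t + 1 < L → T.w (Q t) = 2 * w) ∧ T.w (Q (L - 1)) = w ∧
          ∀ t, t + 1 < L → T.a (Q t) (Q (t + 1)) = 2 * w)) := by
  have core : ∀ {Q : ℕ → Fin n}, IsPath T L Q → ¬ Simple T (Q (L - 2)) (Q (L - 1)) → ∃ w : ℤ,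
      ((∀ t, t + 1 < L → T.w (Q t) = w) ∧ T.w (Q (L - 1)) = 2 * w ∧
          (∀ t, t + 2 < L → T.a (Q t) (Q (t + 1)) = w) ∧ T.a (Q (L - 2)) (Q (L - 1)) = 2 * w) ∨
        ((∀ t, t + 1 < L → T.w (Q t) = 2 * w) ∧ T.w (Q (L - 1)) = w ∧
          ∀ t, t + 1 < L → T.a (Q t) (Q (t + 1)) = 2 * w) := by
    intro Q hQ hns
    obtain ⟨j, rfl⟩ : ∃ j, L = j + 2 := ⟨L - 2, by omega⟩
    simp only [show j + 2 - 2 = j by omega, show j + 2 - 1 = j + 1 by omega] at hns ⊢
    have hs : ∀ t, t < j → Simple T (Q t) (Q (t + 1)) := by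
      intro t ht
      by_contra hc
      exact hns (path_one_double hQ hn ht (by omega) hc)
    have hw := weight_const (L := j + 2) (by omega) hs
    rcases path_double hQ (by omega) (by omega) (d := j) (by omega) hns with ⟨e1, e2⟩ | ⟨e1, e2⟩
    · refine ⟨T.w (Q 0), Or.inl ⟨fun t ht => hw t (by omega), ?_, fun t ht => ?_, ?_⟩⟩
      · rw [e2, hw j le_rfl]
      · rw [(hs t (by omega)).1, hw t (by omega)]
      · rw [e1, hw j le_rfl]
    · refine ⟨T.w (Q (j + 1)), Or.inr ⟨fun t ht => ?_, rfl, fun t ht => ?_⟩⟩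
      · rw [hw t (by omega), ← hw j le_rfl, e2]
      · rcases Nat.lt_or_ge t j with h | h
        · rw [(hs t h).1, hw t (by omega), ← hw j le_rfl, e2]
        · rw [show t = j by omega, e1]
  by_cases hlast : Simple T (P (L - 2)) (P (L - 1))
  · by_cases hfirst : Simple T (P 0) (P 1)
    · have hs : ∀ t, t < L - 1 → Simple T (P t) (P (t + 1)) := by
        intro t ht
        rcases Nat.eq_zero_or_pos t with rfl | h0
        · exact hfirst
        by_cases h : t + 2 < L
        · exact path_inner_simple hP hL hn h0 h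
        · rwa [show t = L - 2 by omega, show L - 2 + 1 = L - 1 by omega]
      have hw := weight_const (L := L) (by omega) hs
      exact ⟨P, T.w (P 0), Or.inl fun t _ => rfl, hP, Or.inl ⟨fun t ht => hw t (by omega),
        fun t ht => by rw [(hs t (by omega)).1, hw t (by omega)]⟩⟩
    · obtain ⟨w, h⟩ := core hP.rev (by
        simpa [show L - 1 - (L - 2) = 1 by omega] using fun h => hfirst h.symm)
      exact ⟨_, w, Or.inr fun t _ => rfl, hP.rev, Or.inr h⟩
  · obtain ⟨w, h⟩ := core hP hlast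
    exact ⟨P, w, Or.inl fun t _ => rfl, hP, Or.inr h⟩

/-- A proper branched path is simply laced and has no further edges. -/
theorem branch_proper {L : ℕ} {P : ℕ → Fin n} (hP : IsPath T L P) {d : ℕ} (hd0 : 0 < d)
    (hd : d + 1 < L) {z : Fin n} (hz : ∀ i, i < L → P i ≠ z) (hz2 : T.IsMinusTwo z)
    (hzadj : Adj T (P d) z) (hn : L + 1 < n) :
    ∃ w : ℤ, (∀ i, i < L → T.w (P i) = w) ∧ T.w z = w ∧
      (∀ i, i + 1 < L → T.a (P i) (P (i + 1)) = w) ∧ T.a (P d) z = w ∧
      (∀ i j, i + 1 < j → j < L → T.a (P i) (P j) = 0) ∧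
      ∀ i, i < L → i ≠ d → T.a (P i) z = 0 := by
  have left : ∀ {Q : ℕ → Fin n} {e : ℕ}, IsPath T L Q → e + 1 < L → (∀ i, i < L → Q i ≠ z) →
      Adj T (Q e) z → ∀ t, t < e → Simple T (Q t) (Q (t + 1)) := by
    intro Q e hQ he hQz hadj t ht
    by_contra hns
    refine false_of_hasAff (hasAff_dExt (k := e - t + 3) (by omega)
      (P := fun s => Q (s + t)) (hQ.seg t (e - t + 3 - 1) (by omega)) ?_ (y := z) ?_ hz2 ?_)
      (by omega)
    · simpa [show 1 + t = t + 1 by omega] using hns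
    · exact fun i hi => hQz _ (by omega)
    · simpa [show e - t + 3 - 3 + t = e by omega, show e - t + t = e by omega] using hadj
  have hs : ∀ t, t < L - 1 → Simple T (P t) (P (t + 1)) := by
    intro t ht
    rcases Nat.lt_or_ge t d with h | h
    · exact left hP hd hz hzadj t h
    · have := left hP.rev (e := L - 1 - d) (by omega) (fun i hi => hz _ (by omega))
        (by simpa [show L - 1 - (L - 1 - d) = d by omega] using hzadj) (L - 2 - t) (by omega)
      rw [show L - 1 - (L - 2 - t) = t + 1 by omega,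
        show L - 1 - (L - 2 - t + 1) = t by omega] at this
      exact this.symm
  have hzs : Simple T (P d) z := by
    by_contra hns
    obtain ⟨Q, hQ, e0, e1, e2⟩ := path3 hzadj.symm (hP.adj d hd)
      (fun e => hz _ hd e.symm) hz2 (hP.two d (by omega)) (hP.two _ hd)
    refine false_of_hasAff (hasAff_dExt (k := 4) le_rfl hQ ?_ (y := P (d - 1)) ?_
      (hP.two _ (by omega)) ?_) (by omega)
    · rw [e0, e1]; exact fun h => hns h.symm
    · intro i hi
      interval_cases i
      · rw [e0]; exact (hz _ (by omega)).symm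
      · rw [e1]; intro e; have := hP.inj _ _ (by omega) (by omega) e; omega
      · rw [e2]; intro e; have := hP.inj _ _ (by omega) (by omega) e; omega
    · have := (hP.adj (d - 1) (by omega)).symm
      rw [show d - 1 + 1 = d by omega] at this
      simpa [e1] using this
  have hw := weight_const (L := L) (by omega) hs
  refine ⟨T.w (P 0), fun i hi => hw i (by omega), ?_, fun i hi => ?_, ?_,
    fun i j hij hj => path_chord_zero hP (by omega) hij hj, fun i hi hid => ?_⟩
  · rw [← hzs.2, hzs.1, hw d (by omega)]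
  · rw [(hs i (by omega)).1, hw i (by omega)]
  · rw [hzs.1, hw d (by omega)]
  · rcases Nat.lt_or_ge i d with h | h
    · have hQ := (hP.seg i (d - i + 1) (by omega)).snoc (by omega) (y := z)
        (fun t _ => hz _ (by omega))
        (by simpa [show d - i + 1 - 1 + i = d by omega, show d - i + i = d by omega] using hzadj) hz2
      have := path_chord_zero hQ (i := 0) (j := d - i + 1) (by omega) (by omega) (by omega)
      simpa [snoc_self, snoc_lt] using this
    · have hQ := ((hP.seg d (i - d + 1) (by omega)).cons (y := z)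
        (fun t _ => hz _ (by omega)) (by simpa using hzadj.symm) hz2)
      have := path_chord_zero hQ (i := 0) (j := i - d + 1) (by omega) (by omega) (by omega)
      simpa [show i - d + d = i by omega, a_symm T z] using this

theorem mult_le_one {i j : Fin n} {p : ℤ} (hi : T.IsMinusTwo i) (hij : i ≠ j)
    (h : T.a i j = p * T.w i) : p * T.m j ≤ 2 * T.m i := by
  have := row_le T i {j} (by simpa using hij)
  rw [sum_singleton, hi.2, h] at this
  exact le_of_mul_le_mul_left (by linarith) (T.w_pos i)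

theorem mult_le_two {i j k : Fin n} {p q : ℤ} (hi : T.IsMinusTwo i) (hij : i ≠ j) (hik : i ≠ k)
    (hjk : j ≠ k) (h : T.a i j = p * T.w i) (h' : T.a i k = q * T.w i) :
    p * T.m j + q * T.m k ≤ 2 * T.m i := by
  have := row_le T i {j, k} (by simp [hij, hik])
  rw [sum_pair hjk, hi.2, h, h'] at this
  exact le_of_mul_le_mul_left (by linarith) (T.w_pos i)

theorem mult_le_three {i j k l : Fin n} (hi : T.IsMinusTwo i) (hij : i ≠ j) (hik : i ≠ k)
    (hil : i ≠ l) (hjk : j ≠ k) (hjl : j ≠ l) (hkl : k ≠ l) (h : T.a i j = T.w i)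
    (h' : T.a i k = T.w i) (h'' : T.a i l = T.w i) : T.m j + T.m k + T.m l ≤ 2 * T.m i := by
  have := row_le T i {j, k, l} (by simp [hij, hik, hil])
  rw [sum_insert (by simp [hjk, hjl]), sum_pair hkl, hi.2, h, h', h''] at this
  exact le_of_mul_le_mul_left (by linarith) (T.w_pos i)

end NumTypeLib
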