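import Groth.Agent.NumType.Branch
import Groth.Agent.NumType.Sub
import Groth.Agent.NumType.Genus
import Groth.Agent.NumType.Graph

/-!
Bound on the entries of a minimal type of genus at least two.
-/

set_option autoImplicit false
open Finset Models

namespace NumTypeLib

variable {n : ℕ} (T : Models.NumericalType n)

/-- `Within k i`: a chain of `k` steps through (-2)-indices leads from `i` to one next to another index. -/
def Within : ℕ → Fin n → Prop
  | 0, i => T.IsMinusTwo i ∧ ∃ j, ¬ T.IsMinusTwo j ∧ Adj T i j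
  | k + 1, i => T.IsMinusTwo i ∧ ∃ j, Adj T i j ∧ Within k j

theorem Within.two {T : Models.NumericalType n} : ∀ {k : ℕ} {i : Fin n}, Within T k i → T.IsMinusTwo i
  | 0, _, h => h.1
  | _ + 1, _, h => h.1

theorem exists_within (hJ : ∃ j, ¬ T.IsMinusTwo j) {i : Fin n} (hi : T.IsMinusTwo i) : ∃ k, Within T k i := by
  classical
  by_contra hne
  let I : Finset (Fin n) := univ.filter fun x => T.IsMinusTwo x ∧ ¬ ∃ k, Within T k x
  have hiI : i ∈ I := mem_filter.2 ⟨mem_univ _, hi, hne⟩
  obtain ⟨j0, hj0⟩ := hJ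
  have hIne : I ≠ univ := fun h => hj0 ((mem_filter.1 (h ▸ mem_univ j0 : j0 ∈ I)).2.1)
  obtain ⟨x, hx, y, hy, hxy⟩ := exists_adj_out T I ⟨i, hiI⟩ hIne
  obtain ⟨hx2, hxn⟩ := (mem_filter.1 hx).2
  by_cases hy2 : T.IsMinusTwo y
  · have hyd : ∃ k, Within T k y := by
      by_contra h
      exact hy (mem_filter.2 ⟨mem_univ _, hy2, h⟩)
    obtain ⟨k, hk⟩ := hyd
    exact hxn ⟨k + 1, hx2, y, hxy, hk⟩
  · exact hxn ⟨0, hx2, y, hy2, hxy⟩

open Classical in
/-- The distance to the indices which are not (-2)-indices. -/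
noncomputable def dst (i : Fin n) : ℕ := if h : ∃ k, Within T k i then Nat.find h else 0

open Classical in
theorem dst_spec {i : Fin n} (h : ∃ k, Within T k i) : Within T (dst T i) i := by
  rw [dst, dif_pos h]; exact Nat.find_spec h

open Classical in
theorem dst_le {i : Fin n} {k : ℕ} (h : Within T k i) : dst T i ≤ k := by
  rw [dst, dif_pos ⟨k, h⟩]; exact Nat.find_min' _ h

theorem exists_geodesic (hJ : ∃ j, ¬ T.IsMinusTwo j) : ∀ (k : ℕ) (i : Fin n), T.IsMinusTwo i → dst T i = k →
    ∃ P : ℕ → Fin n, IsPath T (k + 1) P ∧ P 0 = i ∧ ∀ t, t ≤ k → dst T (P t) = k - t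
  | 0, i, hi, hd => ⟨fun _ => i, ⟨fun a b ha hb _ => by omega, fun a ha => by omega, fun _ _ => hi⟩, rfl,
      fun t ht => by rw [Nat.le_zero.1 ht]; exact hd⟩
  | k + 1, i, hi, hd => by
    have h := dst_spec T (exists_within T hJ hi)
    rw [hd] at h
    obtain ⟨-, j, hij, hj⟩ := h
    have hdj : dst T j = k := by
      have h1 := dst_le T hj
      have h2 : dst T i ≤ dst T j + 1 := dst_le T (k := dst T j + 1) ⟨hi, j, hij, dst_spec T ⟨k, hj⟩⟩
      omega
    obtain ⟨P, hP, hP0, hPd⟩ := exists_geodesic hJ k j hj.two hdj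
    refine ⟨cons i P, hP.cons (fun t ht e => ?_) (hP0.symm ▸ hij) hi, cons_zero _ _, fun t ht => ?_⟩
    · have := hPd t (by omega)
      rw [e] at this
      omega
    · rcases t with _ | t
      · simpa using hd
      · rw [cons_succ, hPd t (by omega)]
        omega

theorem mul_offDiag_le {i j : Fin n} (hij : Adj T i j) (hj : T.IsMinusTwo j) :
    T.m i * T.a i j ≤ 2 * (T.m j * T.w j) := by
  have h := row_le T j {i} (by simpa using hij.1.symm)
  rw [sum_singleton, a_symm T j i, hj.2] at h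
  linarith

theorem mw_le {i j : Fin n} (hij : Adj T i j) (hj : T.IsMinusTwo j) :
    T.m i * T.w i ≤ 2 * (T.m j * T.w j) :=
  (mul_le_mul_of_nonneg_left (w_le_of_pos T hij.2) (T.m_pos i).le).trans (mul_offDiag_le T hij hj)

theorem mw_le_pow (hJ : ∃ j, ¬ T.IsMinusTwo j) (B : ℤ)
    (hB : ∀ j, ¬ T.IsMinusTwo j → ∀ i, T.m i * T.a i j ≤ B) :
    ∀ (k : ℕ) (i : Fin n), Within T k i → T.m i * T.w i ≤ 2 ^ k * B
  | 0, i, ⟨_, j, hj, hij⟩ => by
    rw [pow_zero, one_mul]
    exact (mul_le_mul_of_nonneg_left (w_le_of_pos T hij.2) (T.m_pos i).le).trans (hB j hj i)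
  | k + 1, i, ⟨_, j, hij, hj⟩ => by
    refine (mw_le T hij hj.two).trans ?_
    rw [pow_succ', mul_assoc]
    exact mul_le_mul_of_nonneg_left (mw_le_pow hJ B hB k j hj) (by norm_num)

/-- Edge weights next to a (-2)-index. -/
theorem edge_cases (hn : 3 < n) {L : ℕ} {P : ℕ → Fin n} (hP : IsPath T L P) (hL : 3 ≤ L) {d : ℕ}
    (hd : d + 1 < L) :
    (T.a (P d) (P (d + 1)) = T.w (P d) ∧ T.w (P (d + 1)) = T.w (P d)) ∨
      (T.a (P d) (P (d + 1)) = 2 * T.w (P d) ∧ T.w (P (d + 1)) = 2 * T.w (P d)) ∨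
      (T.a (P d) (P (d + 1)) = 2 * T.w (P (d + 1)) ∧ T.w (P d) = 2 * T.w (P (d + 1))) := by
  by_cases h : Simple T (P d) (P (d + 1))
  · exact Or.inl ⟨h.1, h.2.symm.trans h.1⟩
  · exact Or.inr (path_double hP hn hL hd h)

/-- The maximum of `m w` is attained within six steps. -/
theorem dst_le_six (hJ : ∃ j, ¬ T.IsMinusTwo j) {i : Fin n} (hi : T.IsMinusTwo i)
    (hmax : ∀ j, T.IsMinusTwo j → T.m j * T.w j ≤ T.m i * T.w i)
    (hmin : ∀ j, T.IsMinusTwo j → T.m j * T.w j = T.m i * T.w i → dst T i ≤ dst T j) :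
    dst T i ≤ 6 := by
  classical
  by_contra hcon
  obtain ⟨P, hP, hP0, hPd⟩ := exists_geodesic T hJ (dst T i) i hi rfl
  set k := dst T i with hk
  have hP1 : T.IsMinusTwo (P 1) := hP.two 1 (by omega)
  have hlt : T.m (P 1) * T.w (P 1) < T.m i * T.w i := by
    refine lt_of_le_of_ne (hmax _ hP1) fun h => ?_
    have := hmin _ hP1 h
    have := hPd 1 (by omega)
    omega
  obtain ⟨j0, hj0⟩ := hJ
  have hJ : ∃ j, ¬ T.IsMinusTwo j := ⟨j0, hj0⟩
  -- the neighbours of `i`
  have hnb : ∀ x, Adj T i x → T.IsMinusTwo x ∧ k ≤ dst T x + 1 ∧ (x ≠ P 1 → ∀ t, t ≤ k → P t ≠ x) := by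
    intro x hx
    have h2 : T.IsMinusTwo x := by
      by_contra h
      have := dst_le T (k := 0) (i := i) ⟨hi, x, h, hx⟩
      omega
    have h3 : k ≤ dst T x + 1 :=
      dst_le T (k := dst T x + 1) ⟨hi, x, hx, dst_spec T (exists_within T hJ h2)⟩
    refine ⟨h2, h3, fun hne t ht e => ?_⟩
    have := hPd t ht
    rw [e] at this
    rcases t with _ | _ | t
    · exact hx.1 (hP0.symm.trans e)
    · exact hne e.symm
    · omega
  have hcard : ∀ S : Finset (Fin n), (∀ x ∈ S, T.IsMinusTwo x) → S.card < n := fun S hS => by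
    have hsub : S ⊆ univ.erase j0 := fun x hx => mem_erase.2 ⟨fun h => hj0 (h ▸ hS x hx), mem_univ x⟩
    have := card_le_card hsub
    rw [card_erase_of_mem (mem_univ _), card_univ, Fintype.card_fin] at this
    have := T.pos
    omega
  have hn : k + 1 < n := by
    have := hcard ((range (k + 1)).image P) (fun x hx => by
      obtain ⟨t, ht, rfl⟩ := mem_image.1 hx; exact hP.two t (mem_range.1 ht))
    rwa [card_image_of_injOn (fun a ha b hb e => hP.inj a b (mem_range.1 ha) (mem_range.1 hb) e),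
      card_range] at this
  have hn' : ∀ x, T.IsMinusTwo x → (∀ t, t ≤ k → P t ≠ x) → k + 2 < n := fun x hx hxP => by
    have := hcard (insert x ((range (k + 1)).image P)) (fun y hy => by
      rcases mem_insert.1 hy with rfl | hy
      · exact hx
      · obtain ⟨t, ht, rfl⟩ := mem_image.1 hy; exact hP.two t (mem_range.1 ht))
    rwa [card_insert_of_notMem (fun h => by
      obtain ⟨t, ht, e⟩ := mem_image.1 h; exact hxP t (by have := mem_range.1 ht; omega) e),
      card_image_of_injOn (fun a ha b hb e => hP.inj a b (mem_range.1 ha) (mem_range.1 hb) e),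
      card_range] at this
  let N : Finset (Fin n) := univ.filter fun x => Adj T i x ∧ x ≠ P 1
  have hadj1 : Adj T i (P 1) := hP0 ▸ hP.adj 0 (by omega)
  have hrow : T.a i (P 1) * T.m (P 1) + ∑ x ∈ N, T.a i x * T.m x = 2 * (T.m i * T.w i) := by
    have h := row_erase T i
    rw [hi.2] at h
    rw [← add_sum_erase (univ.erase i) _ (mem_erase.2 ⟨hadj1.1.symm, mem_univ (P 1)⟩)] at h
    have hs : ∑ x ∈ N, T.a i x * T.m x = ∑ x ∈ (univ.erase i).erase (P 1), T.a i x * T.m x := by
      refine sum_subset (fun x hx => ?_) (fun x hx hxN => ?_)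
      · obtain ⟨h1, h2⟩ := (mem_filter.1 hx).2
        exact mem_erase.2 ⟨h2, mem_erase.2 ⟨h1.1.symm, mem_univ x⟩⟩
      · obtain ⟨h1, h2⟩ := mem_erase.1 hx
        by_contra hne
        exact hxN (mem_filter.2 ⟨mem_univ _, adj_of_ne_zero T (mem_erase.1 h2).1.symm
          (fun h0 => hne (by rw [h0, zero_mul])), h1⟩)
    rw [hs]
    linarith
  have hmi := T.m_pos i
  have hwi := T.w_pos i
  rcases N.eq_empty_or_nonempty with hN | ⟨y, hy⟩
  · rw [hN, sum_empty, add_zero] at hrow
    rcases edge_cases T (by omega) hP (by omega) (d := 0) (by omega) with ⟨ha, hw⟩ | ⟨ha, hw⟩ | ⟨ha, hw⟩ <;>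
      rw [hP0] at ha hw <;>
      rw [ha] at hrow <;> simp only [zero_add] at hw hrow <;> rw [hw] at hlt <;>
      (try rw [hw] at hrow) <;> nlinarith [mul_pos hmi hwi, mul_pos (T.m_pos (P 1)) (T.w_pos (P 1))]
  obtain ⟨hyadj, hy1⟩ := (mem_filter.1 hy).2
  obtain ⟨hy2, hyd, hyP⟩ := hnb y hyadj
  have hQ : IsPath T (k + 2) (cons y P) :=
    hP.cons (fun t ht => hyP hy1 t (by omega)) (hP0.symm ▸ hyadj.symm) hy2
  have hQ0 : cons y P 0 = y := cons_zero y P
  have hQ1 : cons y P 1 = i := (cons_succ y P 0).trans hP0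
  have hQ2 : cons y P 2 = P 1 := cons_succ y P 1
  have hny := hn' y hy2 (hyP hy1)
  have hs1 : T.a i (P 1) = T.w i ∧ T.a i (P 1) = T.w (P 1) := by
    have h := path_inner_simple hQ (by omega) (by omega) (d := 1) one_pos (by omega)
    rwa [Simple, hQ2, hQ1] at h
  have hyleaf : ∀ x, Adj T y x → x = i ∨ (T.IsMinusTwo x ∧ ∀ t, t < k + 2 → cons y P t ≠ x) := by
    intro x hx
    by_cases hxi : x = i
    · exact Or.inl hxi
    have h2 : T.IsMinusTwo x := by
      by_contra h
      have := dst_le T (k := 0) (i := y) ⟨hy2, x, h, hx⟩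
      omega
    refine Or.inr ⟨h2, fun t ht e => ?_⟩
    rcases t with _ | _ | t
    · exact hx.1 (hQ0.symm.trans e)
    · exact hxi (e.symm.trans hQ1)
    · have h0 := path_chord_zero hQ (by omega) (i := 0) (j := t + 2) (by omega) ht
      rw [hQ0, e] at h0
      exact absurd hx.2 (by rw [h0]; exact lt_irrefl 0)
  rcases (N.erase y).eq_empty_or_nonempty with hN | ⟨z, hz⟩
  · have hN' : N = {y} := by
      rw [← insert_erase hy, hN]; rfl
    rw [hN', sum_singleton, hs1.1] at hrow
    have hay : T.a i y * T.m y ≤ T.m i * T.w i := by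
      have hymax := hmax y hy2
      rcases edge_cases T (by omega) hQ (by omega) (d := 0) (by omega) with ⟨ha, hw⟩ | ⟨ha, hw⟩ | ⟨ha, hw⟩ <;>
        rw [hQ0, hQ1] at ha hw
      · rw [a_symm T i y, ha]; linarith
      · -- the end `y` is a leaf
        have hrowy := row_erase T y
        rw [hy2.2, sum_eq_single i] at hrowy
        · rw [a_symm T i y, ha]
          rw [ha] at hrowy
          have e : T.w i * T.m i = 2 * T.w y * T.m i := by rw [hw]
          linarith
        · intro x hx hxi
          by_contra hne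
          have hxadj : Adj T y x :=
            adj_of_ne_zero T (mem_erase.1 hx).1.symm (fun h0 => hne (by rw [h0, zero_mul]))
          obtain ⟨hx2, hxQ⟩ := (hyleaf x hxadj).resolve_left hxi
          have hR : IsPath T (k + 3) (cons x (cons y P)) := hQ.cons hxQ (hQ0.symm ▸ hxadj.symm) hx2
          have hnx : k + 3 < n := by
            have := hcard (insert x ((range (k + 2)).image (cons y P))) (fun u hu => by
              rcases mem_insert.1 hu with rfl | hu
              · exact hx2
              · obtain ⟨t, ht, rfl⟩ := mem_image.1 hu; exact hQ.two t (mem_range.1 ht))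
            rwa [card_insert_of_notMem (fun h => by
              obtain ⟨t, ht, e⟩ := mem_image.1 h; exact hxQ t (mem_range.1 ht) e),
              card_image_of_injOn (fun a ha b hb e => hQ.inj a b (mem_range.1 ha) (mem_range.1 hb) e),
              card_range] at this
          have h := path_inner_simple hR (by omega) (by omega) (d := 1) one_pos (by omega)
          rw [Simple, cons_succ, cons_succ, hQ0, hQ1] at h
          have := T.w_pos y
          linarith [h.1]
        · exact fun h => absurd (mem_erase.2 ⟨hyadj.1, mem_univ i⟩) h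
      · rw [hw] at hymax
        rw [a_symm T i y, ha]
        linarith
    rw [show T.w (P 1) = T.w i from hs1.2.symm.trans hs1.1] at hlt
    linarith
  obtain ⟨hzy, hzN⟩ := mem_erase.1 hz
  obtain ⟨hzadj, hz1⟩ := (mem_filter.1 hzN).2
  obtain ⟨hz2, hzd, hzP⟩ := hnb z hzadj
  have hzQ : ∀ t, t < k + 2 → cons y P t ≠ z := fun t ht e => by
    rcases t with _ | t
    · exact hzy (e.symm.trans hQ0)
    · rw [cons_succ] at e; exact hzP hz1 t (by omega) e
  have hkn : k + 3 < n := by
    have := hcard (insert z ((range (k + 2)).image (cons y P))) (fun u hu => by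
      rcases mem_insert.1 hu with rfl | hu
      · exact hz2
      · obtain ⟨t, ht, rfl⟩ := mem_image.1 hu; exact hQ.two t (mem_range.1 ht))
    rwa [card_insert_of_notMem (fun h => by
      obtain ⟨t, ht, e⟩ := mem_image.1 h; exact hzQ t (mem_range.1 ht) e),
      card_image_of_injOn (fun a ha b hb e => hQ.inj a b (mem_range.1 ha) (mem_range.1 hb) e),
      card_range] at this
  obtain ⟨w, hw, hwz, hwe, hwez, -, -⟩ :=
    branch_proper hQ (d := 1) one_pos (by omega) hzQ hz2 (hQ1.symm ▸ hzadj) (by omega)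
  have hwiw : T.w i = w := hQ1 ▸ hw 1 (by omega)
  have hwy : T.w y = w := hQ0 ▸ hw 0 (by omega)
  have hayi : T.a y i = w := by
    have h := hwe 0 (by omega); rwa [hQ0, hQ1] at h
  have haiz : T.a i z = w := by rwa [hQ1] at hwez
  have hN2 : N = {y, z} := by
    refine subset_antisymm (fun u hu => ?_) (fun u hu => ?_)
    · by_contra hne
      rw [mem_insert, mem_singleton, not_or] at hne
      obtain ⟨huadj, hu1⟩ := (mem_filter.1 hu).2
      obtain ⟨hu2, -, huP⟩ := hnb u huadj
      refine false_of_hasAff (hasAff_dbl (k := 5) le_rfl (hQ.seg 0 3 (by omega)) (y := z) (z := u)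
        (fun t ht => hzQ _ (by omega)) (fun t ht e => ?_) (Ne.symm hne.2) hz2 hu2 ?_ ?_) (by omega)
      · simp only [add_zero] at e
        rcases t with _ | t
        · exact hne.1 (e.symm.trans hQ0)
        · rw [cons_succ] at e; exact huP hu1 t (by omega) e
      · simpa [hQ1, hP0] using hzadj.symm
      · simpa [hQ1, hP0] using huadj
    · rcases mem_insert.1 hu with rfl | hu
      · exact hy
      · exact (mem_singleton.1 hu) ▸ hzN
  rw [hN2, sum_pair hzy.symm, a_symm T i y, hayi, haiz, hs1.1, hwiw] at hrow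
  have leaf : ∀ {y z : Fin n}, IsPath T (k + 2) (cons y P) → Adj T i z → y ≠ z → T.IsMinusTwo y → T.IsMinusTwo z →
      (∀ t, t < k + 2 → cons y P t ≠ z) → (∀ x, Adj T y x → x = i ∨
        (T.IsMinusTwo x ∧ ∀ t, t < k + 2 → cons y P t ≠ x)) → T.a y i = w → T.w y = w → T.m i = 2 * T.m y := by
    intro y z hQ hzadj hyz hy2 hz2 hzQ hyleaf hayi hwy
    have hQ1 : cons y P 1 = i := (cons_succ y P 0).trans hP0
    have hrowy := row_erase T y
    rw [hy2.2, hwy, sum_eq_single i, hayi] at hrowy
    · exact mul_left_cancel₀ (hwy ▸ (T.w_pos y).ne') (show w * T.m i = w * (2 * T.m y) by linarith)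
    · intro x hx hxi
      by_contra hne
      have hxadj : Adj T y x :=
        adj_of_ne_zero T (mem_erase.1 hx).1.symm (fun h0 => hne (by rw [h0, zero_mul]))
      obtain ⟨hx2, hxQ⟩ := (hyleaf x hxadj).resolve_left hxi
      have hR : IsPath T (k + 3) (cons x (cons y P)) := hQ.cons hxQ ((cons_zero y P).symm ▸ hxadj.symm) hx2
      have hxz : x ≠ z := fun e => by
        subst e
        exact false_of_hasAff (hasAff_cyc le_rfl
          ((hQ.seg 0 2 (by omega)).cons (y := x) (fun t ht => hxQ _ (by omega))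
            (by simpa using hxadj.symm) hx2)
          (by simpa [hQ1, hP0] using hzadj)) (by omega)
      refine false_of_hasAff (hasAff_e8
        (fun s => if s.val < 8 then cons x (cons y P) (7 - s.val) else z) ?_ ?_
        (hR.adj 6 (by omega)).symm (hR.adj 5 (by omega)).symm (hR.adj 4 (by omega)).symm
        (hR.adj 3 (by omega)).symm (hR.adj 2 (by omega)).symm (hR.adj 1 (by omega)).symm
        (hR.adj 0 (by omega)).symm ?_) (by omega)
      · intro a b e
        have hz' : ∀ t, t < k + 3 → cons x (cons y P) t ≠ z := fun t ht e => by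
          rcases t with _ | t
          · exact hxz e
          · rw [cons_succ] at e; exact hzQ t (by omega) e
        have hii := fun p q (hp : p < 8) (hq : q < 8) => hR.inj p q (by omega) (by omega)
        simp only at e
        split_ifs at e with h1 h2 h3
        · exact Fin.ext (by have := hR.inj _ _ (by omega) (by omega) e; omega)
        · exact absurd e (hz' _ (by omega))
        · exact absurd e.symm (hz' _ (by omega))
        · exact Fin.ext (by omega)
      · intro s
        show T.IsMinusTwo (if s.val < 8 then cons x (cons y P) (7 - s.val) else z)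
        split_ifs
        · exact hR.two _ (by omega)
        · exact hz2
      · show Adj T (cons x (cons y P) 2) z
        rw [cons_succ, hQ1]
        exact hzadj
    · exact fun h => absurd (mem_erase.2 ⟨(adj_of_ne_zero T (fun e => by
        have := hQ.inj 0 1 (by omega) (by omega) ((cons_zero y P).trans (e.trans hQ1.symm)); omega)
        (hayi ▸ hwy ▸ (T.w_pos y).ne')).1.symm, mem_univ i⟩) h
  have hmy : T.m i = 2 * T.m y := leaf hQ hzadj hzy.symm hy2 hz2 hzQ hyleaf hayi hwy
  have hQz : IsPath T (k + 2) (cons z P) :=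
    hP.cons (fun t ht => hzP hz1 t (by omega)) (hP0.symm ▸ hzadj.symm) hz2
  have hzleaf : ∀ x, Adj T z x → x = i ∨ (T.IsMinusTwo x ∧ ∀ t, t < k + 2 → cons z P t ≠ x) := by
    intro x hx
    by_cases hxi : x = i
    · exact Or.inl hxi
    have h2 : T.IsMinusTwo x := by
      by_contra h
      have := dst_le T (k := 0) (i := z) ⟨hz2, x, h, hx⟩
      omega
    refine Or.inr ⟨h2, fun t ht e => ?_⟩
    rcases t with _ | _ | t
    · exact hx.1 ((cons_zero z P).symm.trans e)
    · exact hxi (e.symm.trans ((cons_succ z P 0).trans hP0))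
    · have h0 := path_chord_zero hQz (by omega) (i := 0) (j := t + 2) (by omega) ht
      rw [cons_zero, e] at h0
      exact absurd hx.2 (by rw [h0]; exact lt_irrefl 0)
  have hmz : T.m i = 2 * T.m z := leaf hQz hyadj hzy hz2 hy2 (fun t ht e => by
      rcases t with _ | t
      · exact hzy e
      · rw [cons_succ] at e; exact hyP hy1 t (by omega) e)
    hzleaf (by rw [a_symm T z i, haiz]) hwz
  have hw1 : T.w (P 1) = w := hs1.2.symm.trans (hs1.1.trans hwiw)
  rw [hwiw, hw1] at hlt
  have : w * T.m i = w * (2 * T.m y) := by rw [hmy]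
  have : w * T.m i = w * (2 * T.m z) := by rw [hmz]
  linarith

theorem mw_le_of_minusTwo (hJ : ∃ j, ¬ T.IsMinusTwo j) (B : ℤ) (hB0 : 0 ≤ B)
    (hB : ∀ j, ¬ T.IsMinusTwo j → ∀ i, T.m i * T.a i j ≤ B) {i : Fin n} (hi : T.IsMinusTwo i) :
    T.m i * T.w i ≤ 64 * B := by
  classical
  let S : Finset (Fin n) := univ.filter fun x => T.IsMinusTwo x
  obtain ⟨x, hx, hxmax⟩ := exists_max_image S (fun x => T.m x * T.w x) ⟨i, mem_filter.2 ⟨mem_univ _, hi⟩⟩
  let S' := S.filter fun y => T.m y * T.w y = T.m x * T.w x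
  obtain ⟨y, hy, hymin⟩ := exists_min_image S' (fun y => dst T y) ⟨x, mem_filter.2 ⟨hx, rfl⟩⟩
  obtain ⟨hyS, hyM⟩ := mem_filter.1 hy
  have hy2 : T.IsMinusTwo y := (mem_filter.1 hyS).2
  have hd := dst_le_six T hJ hy2 (fun j hj => hyM ▸ hxmax j (mem_filter.2 ⟨mem_univ _, hj⟩))
    (fun j hj e => hymin j (mem_filter.2 ⟨mem_filter.2 ⟨mem_univ _, hj⟩, e.trans hyM⟩))
  have h1 := mw_le_pow T hJ B hB _ y (dst_spec T (exists_within T hJ hy2))
  have h2 : (2 : ℤ) ^ dst T y ≤ 2 ^ 6 := pow_le_pow_right₀ (by norm_num) hd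
  calc T.m i * T.w i ≤ T.m x * T.w x := hxmax i (mem_filter.2 ⟨mem_univ _, hi⟩)
    _ = T.m y * T.w y := hyM.symm
    _ ≤ 2 ^ dst T y * B := h1
    _ ≤ 64 * B := by
      calc (2 : ℤ) ^ dst T y * B ≤ 2 ^ 6 * B := mul_le_mul_of_nonneg_right h2 hB0
        _ = 64 * B := by norm_num

end NumTypeLib
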