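import Groth.Agent.NumType.Classify

/-!
The branched case, and the main classification theorem.
-/

set_option autoImplicit false
open Finset Models

namespace NumTypeLib

variable {n : ℕ} {T : Models.NumericalType n}

variable (T) in
/-- A simply laced arm leaving `c` through `j` with interior vertices of valency two. -/
structure Arm (c j : Fin n) (L : ℕ) (P : ℕ → Fin n) : Prop where
  path : IsPath T L P
  two_le : 2 ≤ L
  first : P 0 = c
  second : P 1 = j
  simple : ∀ t, t + 1 < L → Simple T (P t) (P (t + 1))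
  inner : ∀ t, 0 < t → t + 1 < L → ∀ y, Adj T (P t) y → y = P (t - 1) ∨ y = P (t + 1)

theorem IsPath.length_le {L : ℕ} {P : ℕ → Fin n} (h : IsPath T L P) : L ≤ n := by
  simpa using Fintype.card_le_of_injective _ h.vinj

/-- From a branch vertex every arm is simply laced and ends in a leaf. -/
theorem exists_arm (h2 : ∀ i, T.IsMinusTwo i) (hfree : ∀ k, ¬ HasAff T k)
    {c j : Fin n} (hj : Adj T c j) {l l' : Fin n} (hl : Adj T c l) (hl' : Adj T c l')
    (hlj : l ≠ j) (hl'j : l' ≠ j) (hll' : l ≠ l') :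
    ∃ L P, Arm T c j L P ∧ ∀ y, Adj T (P (L - 1)) y → y = P (L - 2) := by
  classical
  have hsimple : Simple T c j := by
    by_contra hc
    obtain ⟨P, hP, e0, e1, e2⟩ := path3 hj.symm hl hlj.symm (h2 j) (h2 c) (h2 l)
    refine hfree 4 (hasAff_dExt (k := 4) le_rfl hP ?_ (y := l') ?_ (h2 l') ?_)
    · rw [e0, e1]; exact fun h => hc h.symm
    · intro i hi
      interval_cases i
      · rw [e0]; exact hl'j.symm
      · rw [e1]; exact hl'.1
      · rw [e2]; exact hll'
    · simpa [e1] using hl'
  let S : Set ℕ := {L | ∃ P, Arm T c j L P}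
  have hbdd : BddAbove S := ⟨n, fun L ⟨P, hP⟩ => hP.path.length_le⟩
  have hne : S.Nonempty := by
    refine ⟨2, fun t => if t = 0 then c else j, path2 hj (h2 c) (h2 j), le_rfl, rfl, rfl, ?_, ?_⟩
    · intro t ht
      obtain rfl : t = 0 := by omega
      simpa using hsimple
    · intro t h1 h3; omega
  obtain ⟨P, hA⟩ := Nat.sSup_mem hne hbdd
  have hmax : ∀ L' P', Arm T c j L' P' → L' ≤ sSup S := fun L' P' h => le_csSup hbdd ⟨P', h⟩
  generalize sSup S = L at hA hmax
  refine ⟨L, P, hA, ?_⟩
  intro y hy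
  by_contra hne'
  have hP := hA.path
  have hL := hA.two_le
  have hfresh : ∀ z, Adj T (P (L - 1)) z → z ≠ P (L - 2) → ∀ i, i < L → P i ≠ z := by
    intro z hz hz' i hi e
    subst e
    rcases adj_path hfree hP (by omega) hi hz with h | h
    · omega
    · exact hz' (by congr 1; omega)
  have hy' := hfresh y hy hne'
  have hPy := hP.snoc (by omega) hy' hy (h2 y)
  have hl_off : ∀ z, Adj T c z → z ≠ j → ∀ i, i < L + 1 → snoc L P y i ≠ z := by
    intro z hz hzj i hi e
    subst e
    have e0 : snoc L P y 0 = c := by rw [snoc_lt P y (by omega)]; exact hA.first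
    rw [← e0] at hz
    rcases adj_path hfree hPy (by omega) hi hz with h | h
    · exact hzj (by rw [show i = 1 by omega, snoc_lt P y (by omega)]; exact hA.second)
    · omega
  have hQ := hPy.cons (y := l) (hl_off l hl hlj)
    (by rw [snoc_lt P y (by omega), hA.first]; exact hl.symm) (h2 l)
  by_cases hbr : ∃ z, Adj T (P (L - 1)) z ∧ z ≠ P (L - 2) ∧ z ≠ y
  · obtain ⟨z, hz, hz', hzy⟩ := hbr
    refine hfree (L + 4) (hasAff_dbl (k := L + 4) (by omega)
      (P := cons l (snoc L P y)) (by simpa using hQ) (y := l') (z := z) ?_ ?_ ?_ (h2 _) (h2 _)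
      ?_ ?_)
    · intro i hi
      rcases i with _ | i
      · simpa using hll'
      · simpa using hl_off l' hl' hl'j i (by omega)
    · intro i hi
      rcases i with _ | i
      · simp only [cons_zero]
        intro e
        subst e
        rcases adj_path hfree hQ (i := L) (j := 0) (by omega) (by omega) (by
          obtain ⟨L', rfl⟩ : ∃ L', L = L' + 1 := ⟨L - 1, by omega⟩
          simpa [snoc_lt] using hz) with h | h
        · omega
        · omega
      · simp only [cons_succ]
        by_cases hiL : i < L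
        · rw [snoc_lt P y hiL]; exact hfresh z hz hz' i hiL
        · rw [show i = L by omega, snoc_self]; exact hzy.symm
    · intro e
      subst e
      have hPl := hPy
      have := hfresh l' hz hz'
      have hcl : ∀ i, i < L + 1 → snoc L P y i ≠ l' := hl_off l' hl' hl'j
      have hQ' := hP.snoc (by omega) this hz (h2 l')
      exact hfree _ (chord_hasAff hQ' (i := 0) (j := L) (by omega) (by omega)
        (by rw [snoc_self, snoc_lt P l' (by omega), hA.first]; exact hl'))
    · rw [show cons l (snoc L P y) 1 = snoc L P y 0 from cons_succ _ _ 0,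
        snoc_lt P y (by omega), hA.first]
      exact hl'.symm
    · obtain ⟨L', rfl⟩ : ∃ L', L = L' + 1 := ⟨L - 1, by omega⟩
      simp only [show L' + 1 + 4 - 4 = L' + 1 by omega, cons_succ, snoc_lt P y (show L' < L' + 1 by omega)]
      simpa using hz
  push Not at hbr
  by_cases hs : Simple T (P (L - 1)) y
  · have : L + 1 ≤ L := hmax (L + 1) (snoc L P y)
      { path := hPy
        two_le := by omega
        first := by rw [snoc_lt P y (by omega)]; exact hA.first
        second := by rw [snoc_lt P y (by omega)]; exact hA.second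
        simple := by
          intro t ht
          by_cases htL : t + 1 < L
          · rw [snoc_lt P y htL, snoc_lt P y (by omega)]; exact hA.simple t htL
          · rw [show t + 1 = L by omega, snoc_self, snoc_lt P y (by omega),
              show t = L - 1 by omega]
            exact hs
        inner := by
          intro t ht0 ht z hz
          rw [snoc_lt P y (by omega)] at hz
          rw [snoc_lt P y (by omega : t - 1 < L)]
          by_cases htL : t + 1 < L
          · rw [snoc_lt P y htL]; exact hA.inner t ht0 htL z hz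
          · rw [show t + 1 = L by omega, snoc_self]
            rw [show t = L - 1 by omega] at hz ⊢
            by_cases hzz : z = P (L - 2)
            · exact Or.inl (by rw [hzz]; congr 1)
            · exact Or.inr (hbr z hz hzz) }
    omega
  · refine hfree (L + 3) (hasAff_dExt (k := L + 3) (by omega)
      (P := fun t => cons l (snoc L P y) (L + 1 - t)) (by simpa using hQ.rev) ?_ (y := l') ?_
      (h2 _) ?_)
    · obtain ⟨L', rfl⟩ : ∃ L', L = L' + 1 := ⟨L - 1, by omega⟩
      simp only [Nat.sub_zero, cons_succ, show L' + 1 + 1 - 1 = L' + 1 by omega, snoc_self,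
        snoc_lt P y (show L' < L' + 1 by omega)]
      exact fun h => hs (by simpa using h.symm)
    · intro i hi
      by_cases h0 : L + 1 - i = 0
      · simpa [h0] using hll'
      · obtain ⟨e, he⟩ : ∃ e, L + 1 - i = e + 1 := ⟨L - i, by omega⟩
        simpa [he] using hl_off l' hl' hl'j e (by omega)
    · simp only [show L + 1 - (L + 3 - 3) = 0 + 1 by omega, cons_succ,
        snoc_lt P y (show 0 < L by omega), hA.first]
      exact hl'

/-- Two arms through different neighbours meet only at the branch vertex. -/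
theorem arm_disjoint (hfree : ∀ k, ¬ HasAff T k) {c j j' : Fin n} (hjj : j ≠ j') {L L' : ℕ}
    {P Q : ℕ → Fin n} (hP : Arm T c j L P) (hQ : Arm T c j' L' Q)
    (hPend : ∀ y, Adj T (P (L - 1)) y → y = P (L - 2)) :
    ∀ t s, 0 < t → t < L' → 0 < s → s < L → P s ≠ Q t := by
  intro t
  induction t using Nat.strong_induction_on with
  | _ t ih =>
    intro s ht0 ht hs0 hs e
    have hadj := (hQ.path.adj (t - 1) (by omega)).symm
    rw [show t - 1 + 1 = t by omega, ← e] at hadj
    obtain ⟨s', hs', e'⟩ : ∃ s', s' < L ∧ Q (t - 1) = P s' ∧ (s' + 1 = s ∨ s' = s + 1) := by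
      by_cases hsL : s + 1 < L
      · rcases hP.inner s hs0 hsL _ hadj with h | h
        · exact ⟨s - 1, by omega, h, by omega⟩
        · exact ⟨s + 1, hsL, h, by omega⟩
      · rw [show s = L - 1 by omega] at hadj
        exact ⟨L - 2, by omega, hPend _ hadj, by omega⟩
    by_cases ht1 : t = 1
    · subst ht1
      rw [hQ.second] at e
      have hc : Adj T (P 0) (P s) := by
        rw [hP.first, e, ← hQ.second, ← hQ.first]
        exact hQ.path.adj 0 (by have := hQ.two_le; omega)
      rcases adj_path hfree hP.path (by omega) hs hc with h | h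
      · exact hjj (by rw [← hP.second, ← e, h])
      · omega
    · rcases Nat.eq_zero_or_pos s' with h0 | h0
      · rw [h0, hP.first, ← hQ.first] at e'
        have := hQ.path.inj _ _ (by omega) (by omega) e'.1
        omega
      · exact ih (t - 1) (by omega) s' (by omega) (by omega) h0 hs' e'.1.symm

/-- The multiplicities along an arm ending in a leaf. -/
theorem Arm.mult {c j : Fin n} {L : ℕ} {P : ℕ → Fin n} (hA : Arm T c j L P)
    (hend : ∀ y, Adj T (P (L - 1)) y → y = P (L - 2)) :
    T.m c = (L : ℤ) * T.m (P (L - 1)) ∧ T.m j = ((L : ℤ) - 1) * T.m (P (L - 1)) := by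
  have hL := hA.two_le
  have hlin := linear hA.path.rev (L - 1) (by omega) (fun t ht => by
      have := hA.simple (L - 1 - (t + 1)) (by omega)
      rw [show L - 1 - (t + 1) + 1 = L - 1 - t by omega] at this
      exact this.symm)
    (fun t ht y hy => by
      rcases Nat.eq_zero_or_pos t with rfl | ht0
      · exact Or.inl (by rw [hend y (by simpa using hy)]; rfl)
      · rcases hA.inner (L - 1 - t) (by omega) (by omega) y hy with h | h
        · exact Or.inl (by rw [h]; congr 1)
        · exact Or.inr ⟨ht0, by rw [h]; congr 1; omega⟩)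
  constructor
  · have := hlin (L - 1) le_rfl
    simp only [Nat.sub_self, Nat.sub_zero, hA.first] at this
    rw [this]; push_cast [show 1 ≤ L by omega]; ring
  · have := hlin (L - 2) (by omega)
    simp only [show L - 1 - (L - 2) = 1 by omega, Nat.sub_zero, hA.second] at this
    rw [this]; push_cast [show 2 ≤ L by omega]; ring

/-- A vertex of valency three forces a template. -/
theorem branch_not_free (h2 : ∀ i, T.IsMinusTwo i) (hfree : ∀ k, ¬ HasAff T k)
    {c j₁ j₂ j₃ : Fin n} (a1 : Adj T c j₁) (a2 : Adj T c j₂) (a3 : Adj T c j₃)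
    (h12 : j₁ ≠ j₂) (h13 : j₁ ≠ j₃) (h23 : j₂ ≠ j₃) : False := by
  classical
  have hdeg : ∀ y, Adj T c y → y = j₁ ∨ y = j₂ ∨ y = j₃ := by
    intro y hy
    by_contra hc
    simp only [not_or] at hc
    obtain ⟨P, hP, e0, e1, e2⟩ := path3 a1.symm a2 h12 (h2 j₁) (h2 c) (h2 j₂)
    refine hfree 5 (hasAff_dbl (k := 5) le_rfl hP (y := j₃) (z := y) ?_ ?_ (Ne.symm hc.2.2)
      (h2 _) (h2 _) (by rw [e1]; exact a3.symm) (by rw [e1]; exact hy))
    · intro i hi; interval_cases i
      · rw [e0]; exact h13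
      · rw [e1]; exact a3.1
      · rw [e2]; exact h23
    · intro i hi; interval_cases i
      · rw [e0]; exact Ne.symm hc.1
      · rw [e1]; exact hy.1
      · rw [e2]; exact Ne.symm hc.2.1
  obtain ⟨L₁, P, hP, eP⟩ := exists_arm h2 hfree a1 a2 a3 h12.symm h13.symm h23
  obtain ⟨L₂, Q, hQ, eQ⟩ := exists_arm h2 hfree a2 a1 a3 h12 h23.symm h13
  obtain ⟨L₃, R, hR, eR⟩ := exists_arm h2 hfree a3 a1 a2 h13 h23 h12
  obtain ⟨c1, m1⟩ := hP.mult eP
  obtain ⟨c2, m2⟩ := hQ.mult eQ
  obtain ⟨c3, m3⟩ := hR.mult eR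
  have hrow := row_supp (T := T) c {j₁, j₂, j₃} (by simp [a1.1, a2.1, a3.1]) fun y hy => by
    rcases hdeg y hy with rfl | rfl | rfl <;> simp
  rw [sum_insert (by simp [h12, h13]), sum_pair h23, (h2 c).2] at hrow
  have hs : ∀ {j : Fin n} {L : ℕ} {S : ℕ → Fin n}, Arm T c j L S → T.a c j = T.w c := by
    intro j L S hS
    have := (hS.simple 0 (by have := hS.two_le; omega)).1
    rwa [hS.first, hS.second] at this
  rw [hs hP, hs hQ, hs hR] at hrow
  have hsum : T.m j₁ + T.m j₂ + T.m j₃ = 2 * T.m c :=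
    mul_left_cancel₀ (T.w_pos c).ne' (by linear_combination hrow)
  obtain ⟨p, hp⟩ : ∃ p, L₁ = p + 2 := ⟨L₁ - 2, by have := hP.two_le; omega⟩
  obtain ⟨q, hq⟩ : ∃ q, L₂ = q + 2 := ⟨L₂ - 2, by have := hQ.two_le; omega⟩
  obtain ⟨r, hr⟩ : ∃ r, L₃ = r + 2 := ⟨L₃ - 2, by have := hR.two_le; omega⟩
  subst hp; subst hq; subst hr
  have key : ((p : ℤ) + 1) * (q + 2) * (r + 2) + ((p : ℤ) + 2) * (q + 1) * (r + 2)
      + ((p : ℤ) + 2) * (q + 2) * (r + 1) = 2 * (((p : ℤ) + 2) * (q + 2) * (r + 2)) := by
    refine mul_left_cancel₀ (T.m_pos c).ne' ?_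
    push_cast at c1 c2 c3 m1 m2 m3
    linear_combination ((p : ℤ) + 2) * (q + 2) * (r + 2) * hsum
      + ((p : ℤ) + 1) * (q + 2) * (r + 2) * c1 - ((p : ℤ) + 2) * (q + 2) * (r + 2) * m1
      + ((p : ℤ) + 2) * (q + 1) * (r + 2) * c2 - ((p : ℤ) + 2) * (q + 2) * (r + 2) * m2
      + ((p : ℤ) + 2) * (q + 2) * (r + 1) * c3 - ((p : ℤ) + 2) * (q + 2) * (r + 2) * m3
  -- vertices of the three arms
  let V : Fin 3 → ℕ → Fin n := ![P, Q, R]
  let Ls : Fin 3 → ℕ := ![p + 2, q + 2, r + 2]
  let js : Fin 3 → Fin n := ![j₁, j₂, j₃]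
  have harm : ∀ i, Arm T c (js i) (Ls i) (V i) ∧
      ∀ y, Adj T (V i (Ls i - 1)) y → y = V i (Ls i - 2) := by
    intro i; fin_cases i
    · exact ⟨hP, eP⟩
    · exact ⟨hQ, eQ⟩
    · exact ⟨hR, eR⟩
  have hjs : Function.Injective js := by
    intro i i'; fin_cases i <;> fin_cases i' <;> simp [js, h12, h13, h23, h12.symm, h13.symm, h23.symm]
  have hcell : ∀ i i' t t', t < Ls i → t' < Ls i' → V i t = V i' t' →
      (t = 0 ∧ t' = 0) ∨ (i = i' ∧ t = t') := by
    intro i i' t t' ht ht' e
    rcases Nat.eq_zero_or_pos t with h0 | h0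
    · subst h0
      rw [(harm i).1.first, ← (harm i').1.first] at e
      exact Or.inl ⟨rfl, ((harm i').1.path.inj _ _ (by omega) ht' e).symm⟩
    rcases Nat.eq_zero_or_pos t' with h0' | h0'
    · subst h0'
      rw [(harm i').1.first, ← (harm i).1.first] at e
      exact Or.inl ⟨(harm i).1.path.inj _ _ ht (by omega) e, rfl⟩
    by_cases hii : i = i'
    · subst hii; exact Or.inr ⟨rfl, (harm i).1.path.inj _ _ ht ht' e⟩
    · exact absurd e (arm_disjoint hfree (fun h => hii (hjs h)) (harm i).1 (harm i').1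
        (harm i).2 t' t h0' ht' h0 ht)
  have inj_of : ∀ {k : ℕ} (σ : Equiv.Perm (Fin 3)) (f : Fin k → Fin 3 × ℕ),
      (∀ s, (f s).2 < Ls (σ (f s).1)) →
      Function.Injective (fun s => if (f s).2 = 0 then ((0 : Fin 3), 0) else f s) →
      Function.Injective fun s => V (σ (f s).1) (f s).2 := by
    intro k σ f hf hinj s s' e
    apply hinj
    rcases hcell _ _ _ _ (hf s) (hf s') e with ⟨a, b⟩ | ⟨a, b⟩
    · simp [a, b]
    · simp only [show f s = f s' from Prod.ext (σ.injective a) b]
  have edge : ∀ i t, t + 1 < Ls i → Adj T (V i t) (V i (t + 1)) := fun i t h =>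
    (harm i).1.path.adj t h
  have edge0 : ∀ i i', 1 < Ls i' → Adj T (V i 0) (V i' 1) := fun i i' h => by
    rw [(harm i).1.first, ← (harm i').1.first]; exact edge i' 0 h
  -- the three exceptional configurations
  have hE6 : (∀ i, 3 ≤ Ls i) → False := by
    intro h
    let f : Fin 7 → Fin 3 × ℕ := ![(0, 2), (0, 1), (0, 0), (1, 2), (1, 1), (2, 2), (2, 1)]
    exact hfree 7 (hasAff_e6 (fun s => V (f s).1 (f s).2)
      (inj_of (Equiv.refl _) f (fun s => by fin_cases s <;> simp [f] <;> linarith [h 0, h 1, h 2]) (by decide))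
      (fun _ => h2 _) (edge 0 1 (h 0)).symm (edge 0 0 (by have := h 0; omega)).symm
      (edge 1 1 (h 1)).symm (edge0 0 1 (by have := h 1; omega)) (edge 2 1 (h 2)).symm
      (edge0 0 2 (by have := h 2; omega)))
  have hE7 : ∀ σ : Equiv.Perm (Fin 3), 2 ≤ Ls (σ 0) → 4 ≤ Ls (σ 1) → 4 ≤ Ls (σ 2) → False := by
    intro σ h0 h1 h3
    let f : Fin 8 → Fin 3 × ℕ := ![(1, 3), (1, 2), (1, 1), (1, 0), (2, 1), (2, 2),
      (2, 3), (0, 1)]
    exact hfree 8 (hasAff_e7 (fun s => V (σ (f s).1) (f s).2)
      (inj_of σ f (fun s => by fin_cases s <;> simp [f] <;> omega)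
        (by decide))
      (fun _ => h2 _) (edge (σ 1) 2 (by omega)).symm (edge (σ 1) 1 (by omega)).symm
      (edge (σ 1) 0 (by omega)).symm (edge0 (σ 1) (σ 2) (by omega)) (edge (σ 2) 1 (by omega))
      (edge (σ 2) 2 (by omega)) (edge0 (σ 1) (σ 0) (by omega)))
  have hE8 : ∀ σ : Equiv.Perm (Fin 3), 2 ≤ Ls (σ 0) → 3 ≤ Ls (σ 1) → 6 ≤ Ls (σ 2) → False := by
    intro σ h0 h1 h3
    let f : Fin 9 → Fin 3 × ℕ := ![(2, 5), (2, 4), (2, 3), (2, 2), (2, 1), (2, 0),
      (1, 1), (1, 2), (0, 1)]
    exact hfree 9 (hasAff_e8 (fun s => V (σ (f s).1) (f s).2)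
      (inj_of σ f (fun s => by fin_cases s <;> simp [f] <;> omega)
        (by decide))
      (fun _ => h2 _) (edge (σ 2) 4 (by omega)).symm (edge (σ 2) 3 (by omega)).symm
      (edge (σ 2) 2 (by omega)).symm (edge (σ 2) 1 (by omega)).symm (edge (σ 2) 0 (by omega)).symm
      (edge0 (σ 2) (σ 1) (by omega)) (edge (σ 1) 1 (by omega)) (edge0 (σ 2) (σ 0) (by omega)))
  by_cases hall : 1 ≤ p ∧ 1 ≤ q ∧ 1 ≤ r
  · exact hE6 fun i => by fin_cases i <;> simp [Ls] <;> omega
  -- one arm has a single edge
  have main : ∀ σ : Equiv.Perm (Fin 3), ∀ a b : ℕ, Ls (σ 0) = 2 → Ls (σ 1) = a + 2 →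
      Ls (σ 2) = b + 2 → ((a : ℤ) + 2) * (b + 2) + 2 * (a + 1) * (b + 2) + 2 * (a + 2) * (b + 1)
        = 4 * ((a + 2) * (b + 2)) → a ≤ b → False := by
    intro σ a b e0 e1 e2 e hab
    have e' : (a : ℤ) * b = 4 := by linear_combination e
    have e'' : a * b = 4 := by exact_mod_cast e'
    by_cases ha : 2 ≤ a
    · exact hE7 σ (by omega) (by omega) (by omega)
    · have : a ≤ 4 := Nat.le_of_dvd (by norm_num) ⟨b, e''.symm⟩
      interval_cases a
      · simp at e''
      · exact hE8 σ (by omega) (by omega) (by omega)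
  by_cases hp0 : p = 0
  · subst hp0
    rcases le_total q r with h | h
    · exact main (Equiv.refl _) q r rfl rfl rfl (by push_cast at key ⊢; linear_combination key) h
    · exact main (Equiv.swap 1 2) r q rfl rfl rfl (by push_cast at key ⊢; linear_combination key) h
  by_cases hq0 : q = 0
  · subst hq0
    rcases le_total p r with h | h
    · exact main (Equiv.swap 0 1) p r rfl rfl rfl (by push_cast at key ⊢; linear_combination key) h
    · exact main ((Equiv.swap 0 1).trans (Equiv.swap 0 2)) r p rfl rfl rfl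
        (by push_cast at key ⊢; linear_combination key) h
  obtain rfl : r = 0 := by omega
  rcases le_total p q with h | h
  · exact main ((Equiv.swap 0 1).trans (Equiv.swap 1 2)) p q rfl rfl rfl
      (by push_cast at key ⊢; linear_combination key) h
  · exact main (Equiv.swap 0 2) q p rfl rfl rfl (by push_cast at key ⊢; linear_combination key) h

/-- Main classification: such a type is a copy of an affine template. -/
theorem exists_hasAff (hn : 3 ≤ n) (h2 : ∀ i, T.IsMinusTwo i) : HasAff T n := by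
  classical
  suffices h : ∃ k, HasAff T k by
    obtain ⟨k, hk⟩ := h
    exact hk.size ▸ hk
  by_contra hfree
  rw [not_exists] at hfree
  by_cases hbr : ∃ c j₁ j₂ j₃, Adj T c j₁ ∧ Adj T c j₂ ∧ Adj T c j₃ ∧
      j₁ ≠ j₂ ∧ j₁ ≠ j₃ ∧ j₂ ≠ j₃
  · obtain ⟨c, j₁, j₂, j₃, a1, a2, a3, b1, b2, b3⟩ := hbr
    exact branch_not_free h2 hfree a1 a2 a3 b1 b2 b3
  let S : Set ℕ := {L | ∃ P, IsPath T L P}
  have hbdd : BddAbove S := ⟨n, fun L ⟨P, hP⟩ => hP.length_le⟩
  obtain ⟨j, hj⟩ := exists_adj T (show 1 < n by omega) ⟨0, T.pos⟩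
  have hne : (2 : ℕ) ∈ S := ⟨_, path2 hj (h2 _) (h2 _)⟩
  obtain ⟨P, hP⟩ := Nat.sSup_mem ⟨2, hne⟩ hbdd
  have h2L : 2 ≤ sSup S := le_csSup hbdd hne
  have hmax : ∀ L' P', IsPath T L' P' → L' ≤ sSup S := fun L' P' h => le_csSup hbdd ⟨P', h⟩
  generalize sSup S = L at hP h2L hmax
  have hclosed : ((Finset.range L).image P) = univ := by
    refine eq_univ_of_closed T _ ⟨P 0, mem_image.mpr ⟨0, mem_range.mpr (by omega), rfl⟩⟩ ?_
    intro i hi y hy
    obtain ⟨t, ht, rfl⟩ := mem_image.mp hi
    rw [mem_range] at ht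
    by_contra hc
    have hc' : ∀ i, i < L → P i ≠ y := fun i hi e => hc (mem_image.mpr ⟨i, mem_range.mpr hi, e⟩)
    rcases Nat.eq_zero_or_pos t with rfl | ht0
    · have := hmax _ _ (hP.cons hc' hy.symm (h2 y)); omega
    by_cases htl : t + 1 = L
    · rw [show t = L - 1 by omega] at hy
      have := hmax _ _ (hP.snoc (by omega) hc' hy (h2 y)); omega
    · refine hbr ⟨P t, P (t - 1), P (t + 1), y, ?_, hP.adj t (by omega), hy, ?_, ?_, ?_⟩
      · have := (hP.adj (t - 1) (by omega)).symm
        rwa [show t - 1 + 1 = t by omega] at this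
      · intro e; have := hP.inj _ _ (by omega) (by omega) e; omega
      · exact hc' _ (by omega)
      · exact hc' _ (by omega)
  have hcard : L = n := by
    refine le_antisymm hP.length_le ?_
    have := congrArg Finset.card hclosed
    rw [card_univ, Fintype.card_fin] at this
    exact this ▸ Finset.card_image_le.trans (le_of_eq (Finset.card_range L))
  subst hcard
  exact chain_not_free hn h2 hfree hP fun y => by
    have : y ∈ (Finset.range L).image P := hclosed ▸ mem_univ y
    simpa using this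

end NumTypeLib
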