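import Groth.Agent.NumType.Paths
import Mathlib.Tactic.LinearCombination
import Mathlib.Tactic.Push
import Mathlib.Data.Fin.VecNotation

/-!
Every numerical type on at least three indices, all of them `(-2)`-indices, is a copy of an
affine template.
-/

set_option autoImplicit false
open Finset Models

namespace NumTypeLib

variable {n : ℕ} {T : Models.NumericalType n}

theorem row_supp (i : Fin n) (S : Finset (Fin n)) (hS : i ∉ S)
    (h : ∀ y, Adj T i y → y ∈ S) : ∑ j ∈ S, T.a i j * T.m j = -(T.a i i * T.m i) := by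
  rw [← row_erase T i]
  refine Finset.sum_subset (fun y hy => mem_erase.mpr ⟨fun e => hS (e ▸ hy), mem_univ y⟩) ?_
  intro y hy hyS
  by_contra hne
  exact hyS (h y (adj_of_ne_zero T (mem_erase.mp hy).1.symm fun e => hne (by rw [e, zero_mul])))

theorem path2 {a b : Fin n} (h : Adj T a b) (ha : T.IsMinusTwo a) (hb : T.IsMinusTwo b) :
    IsPath T 2 fun t => if t = 0 then a else b where
  inj i j hi hj e := by
    interval_cases i <;> interval_cases j <;> simp_all [h.1, h.1.symm]
  adj i hi := by
    obtain rfl : i = 0 := by omega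
    simpa using h
  two i hi := by interval_cases i <;> simpa

theorem path3 {x a b : Fin n} (h : Adj T x a) (h' : Adj T a b) (hne : x ≠ b)
    (hx : T.IsMinusTwo x) (ha : T.IsMinusTwo a) (hb : T.IsMinusTwo b) :
    ∃ P, IsPath T 3 P ∧ P 0 = x ∧ P 1 = a ∧ P 2 = b := by
  refine ⟨cons x fun t => if t = 0 then a else b, (path2 h' ha hb).cons ?_ (by simpa using h) hx,
    rfl, rfl, rfl⟩
  intro i hi
  interval_cases i
  · simpa using h.1.symm
  · simpa using hne.symm

/-- A closed path gives a cycle. -/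
theorem chord_hasAff {L : ℕ} {P : ℕ → Fin n} (hP : IsPath T L P) {i j : ℕ} (hij : i + 1 < j)
    (hj : j < L) (h : Adj T (P i) (P j)) : HasAff T (j - i + 1) := by
  refine hasAff_cyc (by omega) (hP.seg i (j - i + 1) (by omega)) ?_
  simp only [zero_add, show j - i + 1 - 1 + i = j by omega]
  exact h.symm

/-- Adjacency inside a path of a type without cycles. -/
theorem adj_path {L : ℕ} {P : ℕ → Fin n} (hfree : ∀ k, ¬ HasAff T k) (hP : IsPath T L P)
    {i j : ℕ} (hi : i < L) (hj : j < L) (h : Adj T (P i) (P j)) : j = i + 1 ∨ i = j + 1 := by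
  by_contra hc
  rcases Nat.lt_trichotomy i j with hlt | rfl | hlt
  · exact hfree _ (chord_hasAff hP (by omega) hj h)
  · exact h.1 rfl
  · exact hfree _ (chord_hasAff hP (by omega) hi h.symm)

/-- Along a simply laced arm starting at a leaf the multiplicities grow linearly. -/
theorem linear {L : ℕ} {P : ℕ → Fin n} (hP : IsPath T L P) (d : ℕ) (hd : d < L)
    (hs : ∀ t, t < d → Simple T (P t) (P (t + 1)))
    (hnb : ∀ t, t < d → ∀ y, Adj T (P t) y → y = P (t + 1) ∨ (0 < t ∧ y = P (t - 1))) :
    ∀ t, t ≤ d → T.m (P t) = ((t : ℤ) + 1) * T.m (P 0) := by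
  intro t
  induction t using Nat.strong_induction_on with
  | _ t ih =>
    intro htd
    rcases t with _ | t
    · simp
    have hadj := hP.adj t (by omega)
    have hdiag := (hP.two t (by omega)).2
    have hw := (hs t (by omega)).1
    rcases t with _ | t
    · have h0 := row_supp (T := T) (P 0) {P 1} (by simpa using hadj.1) fun y hy => by
        rcases hnb 0 (by omega) y hy with h | h
        · simpa using h
        · omega
      rw [sum_singleton, hdiag] at h0
      simp only [zero_add] at hw h0 ⊢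
      rw [hw] at h0
      have := mul_left_cancel₀ (T.w_pos (P 0)).ne'
        (show T.w (P 0) * T.m (P 1) = T.w (P 0) * (2 * T.m (P 0)) by linarith)
      simpa using this
    · have hadj' := hP.adj t (by omega)
      have hne : P (t + 1 + 1) ≠ P t := fun e => by
        have := hP.inj _ _ (by omega) (by omega) e; omega
      have h0 := row_supp (T := T) (P (t + 1)) {P (t + 1 + 1), P t}
        (by simp [hadj.1, hadj'.1.symm]) fun y hy => by
          rcases hnb (t + 1) (by omega) y hy with h | ⟨-, h⟩ <;> simp [h]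
      rw [sum_pair hne, hdiag] at h0
      have hw' := (hs t (by omega)).2
      rw [a_symm T (P (t + 1)) (P t), hw', hw, ih (t + 1) (by omega) (by omega),
        ih t (by omega) (by omega)] at h0
      push_cast at h0 ⊢
      refine mul_left_cancel₀ (T.w_pos (P (t + 1))).ne' ?_
      linear_combination h0

/-- No triple edges outside the `G₂` configurations, so a non-simple edge has ratio product two. -/
theorem ratio_two (hn : 3 ≤ n) (h2 : ∀ i, T.IsMinusTwo i) (hfree : ∀ k, ¬ HasAff T k)
    {u v : Fin n} (h : Adj T u v) (hns : ¬ Simple T u v) :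
    ∃ p q : ℤ, T.a u v = T.w u * p ∧ T.a u v = T.w v * q ∧ p * q = 2 := by
  obtain ⟨p, hp⟩ := T.w_dvd u v
  obtain ⟨q, hq⟩ : T.w v ∣ T.a u v := a_symm T u v ▸ T.w_dvd v u
  refine ⟨p, q, hp, hq, ?_⟩
  have hp0 : 0 < p := pos_of_mul_pos_right (hp ▸ h.2) (T.w_pos u).le
  have hq0 : 0 < q := pos_of_mul_pos_right (hq ▸ h.2) (T.w_pos v).le
  have hpq4 : p * q < 4 := by
    have := sq_lt_of_minusTwo T (by omega) h.1 (h2 u) (h2 v) h.2
    rw [sq] at this
    nth_rewrite 1 [hp] at this
    rw [hq] at this
    have hww : 0 < T.w u * T.w v := mul_pos (T.w_pos u) (T.w_pos v)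
    have h4 : (T.w u * T.w v) * (p * q) < (T.w u * T.w v) * 4 := by linarith
    exact lt_of_mul_lt_mul_left h4 hww.le
  have hne : ({u, v} : Finset (Fin n)) ≠ univ := fun e => by
    have := congrArg Finset.card e
    simp [Finset.card_pair h.1] at this
    omega
  obtain ⟨x, hx, y, hy, hxy⟩ := exists_adj_out T {u, v} ⟨u, by simp⟩ hne
  simp only [mem_insert, mem_singleton, not_or] at hx hy
  have htrip : p < 3 ∧ q < 3 := by
    by_contra hc
    have hT : Trip T u v ∨ Trip T v u := by
      simp only [Trip, a_symm T v u]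
      rcases not_and_or.mp hc with hc | hc
      · left; rw [hp]; nlinarith [T.w_pos u]
      · right; rw [hq]; nlinarith [T.w_pos v]
    rcases hx with rfl | rfl
    · obtain ⟨P, hP, e0, e1, e2⟩ := path3 hxy.symm h hy.2 (h2 y) (h2 x) (h2 v)
      exact hfree 3 (hasAff_g2 hP (by rwa [e1, e2]))
    · obtain ⟨P, hP, e0, e1, e2⟩ := path3 hxy.symm h.symm hy.1 (h2 y) (h2 x) (h2 u)
      exact hfree 3 (hasAff_g2 hP (by rw [e1, e2]; exact hT.symm))
  have hnot : ¬ (p = 1 ∧ q = 1) := by
    rintro ⟨rfl, rfl⟩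
    exact hns ⟨by rw [hp, mul_one], by rw [hq, mul_one]⟩
  obtain ⟨h1, h1'⟩ := htrip
  interval_cases p <;> interval_cases q <;> first | rfl | exact absurd ⟨rfl, rfl⟩ hnot | omega

/-- The data of a chain with a unique non-simple edge. -/
theorem chain_side {L : ℕ} {P : ℕ → Fin n} (hP : IsPath T L P) (d : ℕ) (hd : d + 1 < L)
    (hs : ∀ t, t < d → Simple T (P t) (P (t + 1)))
    (hnb : ∀ t, t ≤ d → ∀ y, Adj T (P t) y → y = P (t + 1) ∨ (0 < t ∧ y = P (t - 1))) (p : ℤ)
    (hp : T.a (P d) (P (d + 1)) = T.w (P d) * p) :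
    T.m (P d) = ((d : ℤ) + 1) * T.m (P 0) ∧
      p * T.m (P (d + 1)) = ((d : ℤ) + 2) * T.m (P 0) := by
  have hlin := linear hP d (by omega) hs (fun t ht => hnb t ht.le)
  refine ⟨hlin d le_rfl, ?_⟩
  have hdiag := (hP.two d (by omega)).2
  have hadj := hP.adj d (by omega)
  rcases d with _ | d
  · have h0 := row_supp (T := T) (P 0) {P 1} (by simpa using hadj.1) fun y hy => by
      rcases hnb 0 le_rfl y hy with h | h
      · simpa using h
      · omega
    simp only [zero_add] at hp h0 ⊢
    rw [sum_singleton, hdiag, hp] at h0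
    refine mul_left_cancel₀ (T.w_pos (P 0)).ne' ?_
    push_cast
    linear_combination h0
  · have hadj' := hP.adj d (by omega)
    have hne : P (d + 1 + 1) ≠ P d := fun e => by
      have := hP.inj _ _ (by omega) (by omega) e; omega
    have h0 := row_supp (T := T) (P (d + 1)) {P (d + 1 + 1), P d}
      (by simp [hadj.1, hadj'.1.symm]) fun y hy => by
        rcases hnb (d + 1) le_rfl y hy with h | ⟨-, h⟩ <;> simp [h]
    rw [sum_pair hne, hdiag, hp, a_symm T (P (d + 1)) (P d), (hs d (by omega)).2,
      hlin (d + 1) le_rfl, hlin d (by omega)] at h0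
    push_cast at h0 ⊢
    refine mul_left_cancel₀ (T.w_pos (P (d + 1))).ne' ?_
    linear_combination h0

/-- A chain is never free of affine templates. -/
theorem chain_not_free (hn : 3 ≤ n) (h2 : ∀ i, T.IsMinusTwo i) (hfree : ∀ k, ¬ HasAff T k)
    {P : ℕ → Fin n} (hP : IsPath T n P) (hsurj : ∀ y, ∃ i < n, P i = y) : False := by
  have hnb : ∀ t, t < n → ∀ y, Adj T (P t) y →
      (t + 1 < n ∧ y = P (t + 1)) ∨ (0 < t ∧ y = P (t - 1)) := by
    intro t ht y hy
    obtain ⟨i, hi, rfl⟩ := hsurj y
    rcases adj_path hfree hP ht hi hy with rfl | rfl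
    · exact Or.inl ⟨hi, rfl⟩
    · exact Or.inr ⟨by omega, rfl⟩
  by_cases hall : ∀ t, t + 1 < n → Simple T (P t) (P (t + 1))
  · have hlin := linear hP (n - 1) (by omega) (fun t ht => hall t (by omega)) fun t ht y hy => by
      rcases hnb t (by omega) y hy with ⟨-, h⟩ | h
      · exact Or.inl h
      · exact Or.inr h
    obtain ⟨j, rfl⟩ : ∃ j, n = j + 2 := ⟨n - 2, by omega⟩
    have hne : P j ≠ P (j + 1) := (hP.adj j (by omega)).1
    have h0 := row_supp (T := T) (P (j + 1)) {P j} (by simpa using hne.symm) fun y hy => by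
      rcases hnb (j + 1) (by omega) y hy with ⟨h, -⟩ | ⟨-, h⟩
      · omega
      · simpa using h
    rw [sum_singleton, (h2 _).2, a_symm T (P (j + 1)) (P j), (hall j (by omega)).2,
      hlin (j + 1) (by omega), hlin j (by omega)] at h0
    push_cast at h0
    have hpos : 0 < T.w (P (j + 1)) * T.m (P 0) := mul_pos (T.w_pos _) (T.m_pos _)
    nlinarith [mul_pos hpos (show (0 : ℤ) < (j : ℤ) + 1 by positivity)]
  push Not at hall
  obtain ⟨d, hd, hns⟩ := hall
  have huniq : ∀ t, t + 1 < n → t ≠ d → Simple T (P t) (P (t + 1)) := by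
    intro t ht htd
    by_contra hc
    rcases Nat.lt_or_ge t d with hlt | hge
    · refine hfree _ (hasAff_chain (k := d - t + 2) (by omega)
        (hP.seg t (d - t + 2) (by omega)) ?_ ?_)
      · simpa [show 1 + t = t + 1 by omega] using hc
      · simpa [show d - t + t = d by omega, show d - t + 1 + t = d + 1 by omega] using hns
    · refine hfree _ (hasAff_chain (k := t - d + 2) (by omega)
        (hP.seg d (t - d + 2) (by omega)) ?_ ?_)
      · simpa [show 1 + d = d + 1 by omega] using hns
      · simpa [show t - d + d = t by omega, show t - d + 1 + d = t + 1 by omega] using hc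
  obtain ⟨p, q, hp, hq, hpq⟩ := ratio_two hn h2 hfree (hP.adj d hd) hns
  obtain ⟨hA, hB⟩ := chain_side hP d hd (fun t ht => huniq t (by omega) (by omega))
    (fun t ht y hy => by
      rcases hnb t (by omega) y hy with ⟨-, h⟩ | h
      · exact Or.inl h
      · exact Or.inr h) p hp
  obtain ⟨r, hr⟩ : ∃ r, n = d + 2 + r := ⟨n - (d + 2), by omega⟩
  have hR := hP.rev
  obtain ⟨hC, hD⟩ := chain_side hR r (by omega) (fun t ht => by
      have := huniq (n - 1 - (t + 1)) (by omega) (by omega)
      rw [show n - 1 - (t + 1) + 1 = n - 1 - t by omega] at this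
      exact this.symm)
    (fun t ht y hy => by
      rcases hnb (n - 1 - t) (by omega) y hy with ⟨h, e⟩ | ⟨h, e⟩
      · exact Or.inr ⟨by omega, by rw [e]; congr 1; omega⟩
      · exact Or.inl (by rw [e]; congr 1 <;> omega)) q (by
      simp only [show n - 1 - r = d + 1 by omega, show n - 1 - (r + 1) = d by omega]
      rw [a_symm, hq])
  simp only [show n - 1 - r = d + 1 by omega, show n - 1 - (r + 1) = d by omega,
    Nat.sub_zero] at hC hD
  have hm0 := T.m_pos (P 0)
  have hu := T.m_pos (P (n - 1))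
  have heq : (2 : ℤ) * ((d : ℤ) + 1) * ((r : ℤ) + 1) = ((d : ℤ) + 2) * ((r : ℤ) + 2) := by
    refine mul_left_cancel₀ (mul_pos hm0 hu).ne' ?_
    rw [hA] at hD
    rw [hC] at hB
    linear_combination (q * ((d : ℤ) + 1) * T.m (P 0)) * hB
      + (((d : ℤ) + 2) * T.m (P 0)) * hD
      - (T.m (P 0) * T.m (P (n - 1)) * ((d : ℤ) + 1) * ((r : ℤ) + 1)) * hpq
  have hdr : (d : ℤ) * r = 2 := by linear_combination heq
  have hdr' : d * r = 2 := by exact_mod_cast hdr
  have hd2 : d ≤ 2 := Nat.le_of_dvd (by norm_num) ⟨r, hdr'.symm⟩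
  interval_cases d
  · simp at hdr'
  · obtain rfl : r = 2 := by omega
    subst hr
    refine hfree 5 (hasAff_f4 hP.rev ?_)
    norm_num
    exact fun h => hns h.symm
  · obtain rfl : r = 1 := by omega
    subst hr
    exact hfree 5 (hasAff_f4 hP hns)

end NumTypeLib
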