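import Groth.Agent.NumType.Template
import Mathlib.Tactic.IntervalCases

/-!
The affine templates: cycle, three chains, three branched families, and the exceptional ones.
-/

set_option autoImplicit false
open Finset Models

namespace NumTypeLib

/-- Symmetrisation of a function given on pairs `i < j`. -/
def sym (f : ℕ → ℕ → ℤ) (i j : ℕ) : ℤ := if i < j then f i j else if j < i then f j i else 0

theorem sym_comm (f : ℕ → ℕ → ℤ) (i j : ℕ) : sym f i j = sym f j i := by
  unfold sym; split_ifs <;> first | rfl | omega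

theorem sym_of_lt {f : ℕ → ℕ → ℤ} {i j : ℕ} (h : i < j) : sym f i j = f i j := by simp [sym, h]

theorem sym_nonneg {f : ℕ → ℕ → ℤ} (hf : ∀ i j, 0 ≤ f i j) (i j : ℕ) : 0 ≤ sym f i j := by
  unfold sym; split_ifs <;> first | exact hf _ _ | exact le_refl 0

theorem row_of_one (p : Tpl) (s : Fin p.k) (hE : ∀ i j, 0 ≤ p.E i j)
    (hC : ∀ i, i < p.k → 0 ≤ p.C i) (t : ℕ) (ht : t < p.k) (hts : t ≠ s.val)
    (h : 2 * p.W s * p.C s ≤ p.E s t * p.C t) :
    2 * p.W s * p.C s ≤ ∑ u ∈ univ.erase s, p.E s u * p.C u :=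
  h.trans (Finset.single_le_sum (f := fun u : Fin p.k => p.E s u * p.C u)
    (fun u _ => mul_nonneg (hE _ _) (hC _ u.isLt))
    (mem_erase.mpr ⟨fun e => hts (by rw [← e]), mem_univ ⟨t, ht⟩⟩))

theorem row_of_two (p : Tpl) (s : Fin p.k) (hE : ∀ i j, 0 ≤ p.E i j)
    (hC : ∀ i, i < p.k → 0 ≤ p.C i) (t t' : ℕ) (ht : t < p.k) (ht' : t' < p.k)
    (hts : t ≠ s.val) (hts' : t' ≠ s.val) (hne : t ≠ t')
    (h : 2 * p.W s * p.C s ≤ p.E s t * p.C t + p.E s t' * p.C t') :
    2 * p.W s * p.C s ≤ ∑ u ∈ univ.erase s, p.E s u * p.C u := by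
  refine h.trans ?_
  have h1 : p.E s t * p.C t + p.E s t' * p.C t' =
      ∑ u ∈ ({⟨t, ht⟩, ⟨t', ht'⟩} : Finset (Fin p.k)), p.E s u * p.C u := by
    rw [Finset.sum_pair (by simpa using hne)]
  rw [h1]
  refine Finset.sum_le_sum_of_subset_of_nonneg ?_ (fun u _ _ => mul_nonneg (hE _ _) (hC _ u.isLt))
  intro u hu
  simp only [mem_insert, mem_singleton] at hu
  refine mem_erase.mpr ⟨?_, mem_univ u⟩
  rcases hu with rfl | rfl <;> simp [Fin.ext_iff, hts, hts']

theorem row_of_three (p : Tpl) (s : Fin p.k) (hE : ∀ i j, 0 ≤ p.E i j)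
    (hC : ∀ i, i < p.k → 0 ≤ p.C i) (t t' t'' : ℕ) (ht : t < p.k) (ht' : t' < p.k)
    (ht'' : t'' < p.k) (hts : t ≠ s.val) (hts' : t' ≠ s.val) (hts'' : t'' ≠ s.val)
    (h01 : t ≠ t') (h02 : t ≠ t'') (h12 : t' ≠ t'')
    (h : 2 * p.W s * p.C s ≤ p.E s t * p.C t + p.E s t' * p.C t' + p.E s t'' * p.C t'') :
    2 * p.W s * p.C s ≤ ∑ u ∈ univ.erase s, p.E s u * p.C u := by
  refine h.trans ?_
  have h1 : p.E s t * p.C t + p.E s t' * p.C t' + p.E s t'' * p.C t'' =
      ∑ u ∈ ({⟨t, ht⟩, ⟨t', ht'⟩, ⟨t'', ht''⟩} : Finset (Fin p.k)), p.E s u * p.C u := by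
    rw [Finset.sum_insert (by simp [h01, h02]), Finset.sum_pair (by simpa using h12)]
    ring
  rw [h1]
  refine Finset.sum_le_sum_of_subset_of_nonneg ?_ (fun u _ _ => mul_nonneg (hE _ _) (hC _ u.isLt))
  intro u hu
  simp only [mem_insert, mem_singleton] at hu
  refine mem_erase.mpr ⟨?_, mem_univ u⟩
  rcases hu with rfl | rfl | rfl <;> simp [Fin.ext_iff, hts, hts', hts'']

theorem span_of_pred (p : Tpl)
    (h : ∀ t, t < p.k → 0 < t → ∃ s, s < t ∧ p.E s t ≠ 0)
    (P : ℕ → Prop) (h0 : P 0)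
    (hs : ∀ s t, s < p.k → t < p.k → p.E s t ≠ 0 → P s → P t) (t : ℕ) (ht : t < p.k) : P t := by
  induction t using Nat.strong_induction_on with
  | _ t ih =>
    rcases Nat.eq_zero_or_pos t with rfl | htpos
    · exact h0
    · obtain ⟨s, hst, hE⟩ := h t ht htpos
      exact hs s t (hst.trans ht) ht hE (ih s hst (hst.trans ht))

def cyc (k : ℕ) : Tpl where
  k := k
  E := sym fun i j => if j = i + 1 ∨ (i = 0 ∧ j + 1 = k) then 1 else 0
  W := fun _ => 1
  C := fun _ => 1

def chainUU (k : ℕ) : Tpl where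
  k := k
  E := sym fun i j => if j = i + 1 then (if j + 1 = k then 4 else 2) else 0
  W := fun i => if i = 0 then 1 else if i + 1 < k then 2 else 4
  C := fun i => if i + 1 < k then 2 else 1

def chainUD (k : ℕ) : Tpl where
  k := k
  E := sym fun i j => if j = i + 1 then 2 else 0
  W := fun i => if i = 0 ∨ i + 1 = k then 1 else 2
  C := fun _ => 1

def chainDU (k : ℕ) : Tpl where
  k := k
  E := sym fun i j => if j = i + 1 then (if i = 0 ∨ j + 1 = k then 2 else 1) else 0
  W := fun i => if i = 0 ∨ i + 1 = k then 2 else 1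
  C := fun i => if i = 0 ∨ i + 1 = k then 1 else 2

def dExtUp (k : ℕ) : Tpl where
  k := k
  E := sym fun i j => if i = 0 ∧ j = 1 then 2
    else if (j = i + 1 ∧ 1 ≤ i ∧ j + 2 ≤ k) ∨ (i + 3 = k ∧ j + 1 = k) then 1 else 0
  W := fun i => if i = 0 then 2 else 1
  C := fun i => if i = 0 ∨ k ≤ i + 2 then 1 else 2

def dExtDown (k : ℕ) : Tpl where
  k := k
  E := sym fun i j => if (j = i + 1 ∧ j + 2 ≤ k) ∨ (i + 3 = k ∧ j + 1 = k) then 2 else 0
  W := fun i => if i = 0 then 1 else 2
  C := fun i => if k ≤ i + 2 then 1 else 2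

def dbl (k : ℕ) : Tpl where
  k := k
  E := sym fun i j => if (i = 0 ∧ j = 2) ∨ (i = 1 ∧ j = 2) ∨
    (j = i + 1 ∧ 2 ≤ i ∧ j + 2 ≤ k) ∨ (i + 3 = k ∧ j + 1 = k) then 1 else 0
  W := fun _ => 1
  C := fun i => if i ≤ 1 ∨ k ≤ i + 2 then 1 else 2

def g2A : Tpl where
  k := 3
  E := sym fun i j => if (i, j) = (0, 1) then 1 else if (i, j) = (1, 2) then 3 else 0
  W := fun i => [1, 1, 3].getD i 1
  C := fun i => [1, 2, 1].getD i 1

def g2B : Tpl where
  k := 3
  E := sym fun i j => if (i, j) = (0, 1) then 3 else if (i, j) = (1, 2) then 3 else 0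
  W := fun i => [3, 3, 1].getD i 1
  C := fun i => [1, 2, 3].getD i 1

def f4A : Tpl where
  k := 5
  E := sym fun i j => if j = i + 1 ∧ j < 5 then (if j < 3 then 1 else 2) else 0
  W := fun i => [1, 1, 1, 2, 2].getD i 1
  C := fun i => [1, 2, 3, 2, 1].getD i 1

def f4B : Tpl where
  k := 5
  E := sym fun i j => if j = i + 1 ∧ j < 5 then (if j = 4 then 1 else 2) else 0
  W := fun i => [2, 2, 2, 1, 1].getD i 1
  C := fun i => [1, 2, 3, 4, 2].getD i 1

def e6 : Tpl where
  k := 7
  E := sym fun i j => if (i, j) = (0, 1) ∨ (i, j) = (1, 2) ∨ (i, j) = (2, 4) ∨ (i, j) = (3, 4) ∨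
    (i, j) = (2, 6) ∨ (i, j) = (5, 6) then 1 else 0
  W := fun _ => 1
  C := fun i => [1, 2, 3, 1, 2, 1, 2].getD i 1

def e7 : Tpl where
  k := 8
  E := sym fun i j => if (j = i + 1 ∧ j < 7) ∨ (i, j) = (3, 7) then 1 else 0
  W := fun _ => 1
  C := fun i => [1, 2, 3, 4, 3, 2, 1, 2].getD i 1

def e8 : Tpl where
  k := 9
  E := sym fun i j => if (j = i + 1 ∧ j < 8) ∨ (i, j) = (5, 8) then 1 else 0
  W := fun _ => 1
  C := fun i => [1, 2, 3, 4, 5, 6, 4, 2, 3].getD i 1

macro "pos_side" : tactic => `(tactic| (intro s _; dsimp only; split_ifs <;> norm_num))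

/-- evaluates template entries in a fully determined case -/
macro "tpl_eval" : tactic =>
  `(tactic| (try simp (disch := omega) only [cyc, chainUU, chainUD, chainDU, dExtUp, dExtDown, dbl,
               sym, if_pos, if_neg]
             all_goals first
               | omega
               | (norm_num; done)
               | ((repeat' split) <;> (first | omega | (norm_num; done) | (norm_num at * <;> omega)))))

theorem cyc_good (k : ℕ) (hk : 3 ≤ k) : (cyc k).Good where
  kpos := by dsimp [cyc]; omega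
  Wpos := fun _ _ => Int.one_pos
  Cpos := fun _ _ => Int.one_pos
  symm := fun s t _ _ => by simp only [cyc]; exact sym_comm _ s t
  row := by
    intro s
    have hs : s.val < k := s.isLt
    have hE : ∀ i j, 0 ≤ (cyc k).E i j :=
      sym_nonneg fun i j => by split_ifs <;> norm_num
    by_cases h0 : s.val = 0
    · refine row_of_two _ s hE (fun _ _ => zero_le_one) 1 (k - 1) ?_ ?_ ?_ ?_ ?_ ?_ <;> tpl_eval
    by_cases h1 : s.val + 1 = k
    · refine row_of_two _ s hE (fun _ _ => zero_le_one) (s.val - 1) 0 ?_ ?_ ?_ ?_ ?_ ?_ <;> tpl_eval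
    refine row_of_two _ s hE (fun _ _ => zero_le_one) (s.val - 1) (s.val + 1) ?_ ?_ ?_ ?_ ?_ ?_ <;>
      tpl_eval
  span := span_of_pred _ <| by
    intro t ht h0
    have ht' : t < k := ht
    exact ⟨t - 1, by omega, by tpl_eval⟩
  Wone := ⟨0, by dsimp [cyc]; omega, rfl⟩
  Cone := ⟨0, by dsimp [cyc]; omega, rfl⟩

theorem chainUU_good (k : ℕ) (hk : 3 ≤ k) : (chainUU k).Good where
  kpos := by dsimp [chainUU]; omega
  Wpos := by unfold chainUU; pos_side
  Cpos := by unfold chainUU; pos_side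
  symm := fun s t _ _ => by simp only [chainUU]; exact sym_comm _ s t
  row := by
    intro s
    have hs : s.val < k := s.isLt
    have hE : ∀ i j, 0 ≤ (chainUU k).E i j :=
      sym_nonneg fun i j => by split_ifs <;> norm_num
    have hC : ∀ i, i < k → 0 ≤ (chainUU k).C i := fun i _ => by tpl_eval
    by_cases h0 : s.val = 0
    · refine row_of_one _ s hE hC 1 ?_ ?_ ?_ <;> tpl_eval
    by_cases h1 : s.val + 1 = k
    · refine row_of_one _ s hE hC (s.val - 1) ?_ ?_ ?_ <;> tpl_eval
    refine row_of_two _ s hE hC (s.val - 1) (s.val + 1) ?_ ?_ ?_ ?_ ?_ ?_ <;> tpl_eval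
  span := span_of_pred _ <| by
    intro t ht h0
    have ht' : t < k := ht
    exact ⟨t - 1, by omega, by tpl_eval⟩
  Wone := ⟨0, by dsimp [chainUU]; omega, rfl⟩
  Cone := ⟨k - 1, by dsimp [chainUU]; omega, by tpl_eval⟩

theorem chainUD_good (k : ℕ) (hk : 3 ≤ k) : (chainUD k).Good where
  kpos := by dsimp [chainUD]; omega
  Wpos := by unfold chainUD; pos_side
  Cpos := fun _ _ => Int.one_pos
  symm := fun s t _ _ => by simp only [chainUD]; exact sym_comm _ s t
  row := by
    intro s
    have hs : s.val < k := s.isLt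
    have hE : ∀ i j, 0 ≤ (chainUD k).E i j :=
      sym_nonneg fun i j => by split_ifs <;> norm_num
    have hC : ∀ i, i < k → 0 ≤ (chainUD k).C i := fun i _ => by tpl_eval
    by_cases h0 : s.val = 0
    · refine row_of_one _ s hE hC 1 ?_ ?_ ?_ <;> tpl_eval
    by_cases h1 : s.val + 1 = k
    · refine row_of_one _ s hE hC (s.val - 1) ?_ ?_ ?_ <;> tpl_eval
    refine row_of_two _ s hE hC (s.val - 1) (s.val + 1) ?_ ?_ ?_ ?_ ?_ ?_ <;> tpl_eval
  span := span_of_pred _ <| by
    intro t ht h0
    have ht' : t < k := ht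
    exact ⟨t - 1, by omega, by tpl_eval⟩
  Wone := ⟨0, by dsimp [chainUD]; omega, by tpl_eval⟩
  Cone := ⟨0, by dsimp [chainUD]; omega, rfl⟩

theorem chainDU_good (k : ℕ) (hk : 3 ≤ k) : (chainDU k).Good where
  kpos := by dsimp [chainDU]; omega
  Wpos := by unfold chainDU; pos_side
  Cpos := by unfold chainDU; pos_side
  symm := fun s t _ _ => by simp only [chainDU]; exact sym_comm _ s t
  row := by
    intro s
    have hs : s.val < k := s.isLt
    have hE : ∀ i j, 0 ≤ (chainDU k).E i j :=
      sym_nonneg fun i j => by split_ifs <;> norm_num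
    have hC : ∀ i, i < k → 0 ≤ (chainDU k).C i := fun i _ => by tpl_eval
    by_cases h0 : s.val = 0
    · refine row_of_one _ s hE hC 1 ?_ ?_ ?_ <;> tpl_eval
    by_cases h1 : s.val + 1 = k
    · refine row_of_one _ s hE hC (s.val - 1) ?_ ?_ ?_ <;> tpl_eval
    refine row_of_two _ s hE hC (s.val - 1) (s.val + 1) ?_ ?_ ?_ ?_ ?_ ?_ <;> tpl_eval
  span := span_of_pred _ <| by
    intro t ht h0
    have ht' : t < k := ht
    exact ⟨t - 1, by omega, by tpl_eval⟩
  Wone := ⟨1, by dsimp [chainDU]; omega, by tpl_eval⟩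
  Cone := ⟨0, by dsimp [chainDU]; omega, by tpl_eval⟩

theorem dExtUp_good (k : ℕ) (hk : 4 ≤ k) : (dExtUp k).Good where
  kpos := by dsimp [dExtUp]; omega
  Wpos := by unfold dExtUp; pos_side
  Cpos := by unfold dExtUp; pos_side
  symm := fun s t _ _ => by simp only [dExtUp]; exact sym_comm _ s t
  row := by
    intro s
    have hs : s.val < k := s.isLt
    have hE : ∀ i j, 0 ≤ (dExtUp k).E i j :=
      sym_nonneg fun i j => by split_ifs <;> norm_num
    have hC : ∀ i, i < k → 0 ≤ (dExtUp k).C i := fun i _ => by tpl_eval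
    by_cases h0 : s.val = 0
    · refine row_of_one _ s hE hC 1 ?_ ?_ ?_ <;> tpl_eval
    by_cases h1 : k ≤ s.val + 2
    · refine row_of_one _ s hE hC (k - 3) ?_ ?_ ?_ <;> tpl_eval
    by_cases h2 : s.val + 3 = k
    · refine row_of_three _ s hE hC (s.val - 1) (s.val + 1) (s.val + 2)
        ?_ ?_ ?_ ?_ ?_ ?_ ?_ ?_ ?_ ?_ <;> tpl_eval
    refine row_of_two _ s hE hC (s.val - 1) (s.val + 1) ?_ ?_ ?_ ?_ ?_ ?_ <;> tpl_eval
  span := span_of_pred _ <| by
    intro t ht h0
    have ht' : t < k := ht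
    by_cases h : t + 1 = k
    · exact ⟨k - 3, by omega, by tpl_eval⟩
    · exact ⟨t - 1, by omega, by tpl_eval⟩
  Wone := ⟨1, by dsimp [dExtUp]; omega, rfl⟩
  Cone := ⟨0, by dsimp [dExtUp]; omega, by tpl_eval⟩

theorem dExtDown_good (k : ℕ) (hk : 4 ≤ k) : (dExtDown k).Good where
  kpos := by dsimp [dExtDown]; omega
  Wpos := by unfold dExtDown; pos_side
  Cpos := by unfold dExtDown; pos_side
  symm := fun s t _ _ => by simp only [dExtDown]; exact sym_comm _ s t
  row := by
    intro s
    have hs : s.val < k := s.isLt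
    have hE : ∀ i j, 0 ≤ (dExtDown k).E i j :=
      sym_nonneg fun i j => by split_ifs <;> norm_num
    have hC : ∀ i, i < k → 0 ≤ (dExtDown k).C i := fun i _ => by tpl_eval
    by_cases h0 : s.val = 0
    · refine row_of_one _ s hE hC 1 ?_ ?_ ?_ <;> tpl_eval
    by_cases h1 : k ≤ s.val + 2
    · refine row_of_one _ s hE hC (k - 3) ?_ ?_ ?_ <;> tpl_eval
    by_cases h2 : s.val + 3 = k
    · refine row_of_three _ s hE hC (s.val - 1) (s.val + 1) (s.val + 2)
        ?_ ?_ ?_ ?_ ?_ ?_ ?_ ?_ ?_ ?_ <;> tpl_eval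
    refine row_of_two _ s hE hC (s.val - 1) (s.val + 1) ?_ ?_ ?_ ?_ ?_ ?_ <;> tpl_eval
  span := span_of_pred _ <| by
    intro t ht h0
    have ht' : t < k := ht
    by_cases h : t + 1 = k
    · exact ⟨k - 3, by omega, by tpl_eval⟩
    · exact ⟨t - 1, by omega, by tpl_eval⟩
  Wone := ⟨0, by dsimp [dExtDown]; omega, rfl⟩
  Cone := ⟨k - 1, by dsimp [dExtDown]; omega, by tpl_eval⟩

theorem dbl_good (k : ℕ) (hk : 5 ≤ k) : (dbl k).Good where
  kpos := by dsimp [dbl]; omega
  Wpos := fun _ _ => Int.one_pos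
  Cpos := by unfold dbl; pos_side
  symm := fun s t _ _ => by simp only [dbl]; exact sym_comm _ s t
  row := by
    intro s
    have hs : s.val < k := s.isLt
    have hE : ∀ i j, 0 ≤ (dbl k).E i j :=
      sym_nonneg fun i j => by split_ifs <;> norm_num
    have hC : ∀ i, i < k → 0 ≤ (dbl k).C i := fun i _ => by tpl_eval
    by_cases h0 : s.val ≤ 1
    · refine row_of_one _ s hE hC 2 ?_ ?_ ?_ <;> tpl_eval
    by_cases h1 : k ≤ s.val + 2
    · refine row_of_one _ s hE hC (k - 3) ?_ ?_ ?_ <;> tpl_eval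
    by_cases h2 : s.val = 2 ∧ k = 5
    · have h0' : (0 : ℕ) < k := by omega
      obtain ⟨h2, rfl⟩ := h2
      have : s = (⟨2, by norm_num [dbl]⟩ : Fin (dbl 5).k) := Fin.ext h2
      subst this
      decide
    by_cases h3 : s.val = 2
    · refine row_of_three _ s hE hC 0 1 3 ?_ ?_ ?_ ?_ ?_ ?_ ?_ ?_ ?_ ?_ <;> tpl_eval
    by_cases h4 : s.val + 3 = k
    · refine row_of_three _ s hE hC (s.val - 1) (s.val + 1) (s.val + 2)
        ?_ ?_ ?_ ?_ ?_ ?_ ?_ ?_ ?_ ?_ <;> tpl_eval
    refine row_of_two _ s hE hC (s.val - 1) (s.val + 1) ?_ ?_ ?_ ?_ ?_ ?_ <;> tpl_eval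
  span := by
    intro P h0 hs t ht
    have hk' : ∀ {i : ℕ}, i < k → i < (dbl k).k := fun h => h
    have h2 : P 2 := hs 0 2 (hk' (by omega)) (hk' (by omega)) (by tpl_eval) h0
    have h1 : P 1 := hs 2 1 (hk' (by omega)) (hk' (by omega)) (by tpl_eval) h2
    have h3 : ∀ i, 2 ≤ i → i + 2 ≤ k → P i := by
      intro i h2i
      induction i, h2i using Nat.le_induction with
      | base => exact fun _ => h2
      | succ i h2i ih =>
        intro hik
        exact hs i (i + 1) (hk' (by omega)) (hk' (by omega)) (by tpl_eval) (ih (by omega))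
    have htk : t < k := ht
    by_cases hlast : t + 1 = k
    · exact hs (k - 3) t (hk' (by omega)) ht (by tpl_eval) (h3 (k - 3) (by omega) (by omega))
    rcases Nat.lt_or_ge t 2 with hlt | hge
    · interval_cases t
      · exact h0
      · exact h1
    · exact h3 t hge (by omega)
  Wone := ⟨0, by dsimp [dbl]; omega, rfl⟩
  Cone := ⟨0, by dsimp [dbl]; omega, rfl⟩

theorem g2A_good : g2A.Good where
  kpos := by decide
  Wpos := by decide
  Cpos := by decide
  symm := fun s t _ _ => by simp only [g2A]; exact sym_comm _ s t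
  row := by decide
  span := span_of_pred _ <| by
    intro t ht h0
    have ht' : t < 3 := ht
    interval_cases t <;> decide
  Wone := by decide
  Cone := by decide

theorem g2B_good : g2B.Good where
  kpos := by decide
  Wpos := by decide
  Cpos := by decide
  symm := fun s t _ _ => by simp only [g2B]; exact sym_comm _ s t
  row := by decide
  span := span_of_pred _ <| by
    intro t ht h0
    have ht' : t < 3 := ht
    interval_cases t <;> decide
  Wone := by decide
  Cone := by decide

theorem f4A_good : f4A.Good where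
  kpos := by decide
  Wpos := by decide
  Cpos := by decide
  symm := fun s t _ _ => by simp only [f4A]; exact sym_comm _ s t
  row := by decide
  span := span_of_pred _ <| by
    intro t ht h0
    have ht' : t < 5 := ht
    interval_cases t <;> decide
  Wone := by decide
  Cone := by decide

theorem f4B_good : f4B.Good where
  kpos := by decide
  Wpos := by decide
  Cpos := by decide
  symm := fun s t _ _ => by simp only [f4B]; exact sym_comm _ s t
  row := by decide
  span := span_of_pred _ <| by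
    intro t ht h0
    have ht' : t < 5 := ht
    interval_cases t <;> decide
  Wone := by decide
  Cone := by decide

theorem e6_good : e6.Good where
  kpos := by decide
  Wpos := by decide
  Cpos := by decide
  symm := fun s t _ _ => by simp only [e6]; exact sym_comm _ s t
  row := by decide
  span := by
    intro P h0 hs t ht
    have h1 := hs 0 1 (by decide) (by decide) (by decide) h0
    have h2 := hs 1 2 (by decide) (by decide) (by decide) h1
    have h4 := hs 2 4 (by decide) (by decide) (by decide) h2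
    have h3 := hs 4 3 (by decide) (by decide) (by decide) h4
    have h6 := hs 2 6 (by decide) (by decide) (by decide) h2
    have h5 := hs 6 5 (by decide) (by decide) (by decide) h6
    have ht' : t < 7 := ht
    interval_cases t <;> assumption
  Wone := by decide
  Cone := by decide

theorem e7_good : e7.Good where
  kpos := by decide
  Wpos := by decide
  Cpos := by decide
  symm := fun s t _ _ => by simp only [e7]; exact sym_comm _ s t
  row := by decide
  span := span_of_pred _ <| by
    intro t ht h0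
    have ht' : t < 8 := ht
    interval_cases t <;> decide
  Wone := by decide
  Cone := by decide

theorem e8_good : e8.Good where
  kpos := by decide
  Wpos := by decide
  Cpos := by decide
  symm := fun s t _ _ => by simp only [e8]; exact sym_comm _ s t
  row := by decide
  span := span_of_pred _ <| by
    intro t ht h0
    have ht' : t < 9 := ht
    interval_cases t <;> decide
  Wone := by decide
  Cone := by decide

end NumTypeLib
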