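import Groth.Agent.NumType.Branch
import Groth.Agent.NumType.Genus

/-!
Minimal numerical types of genus one on at least three indices are affine templates.
-/

set_option autoImplicit false
open Finset Models

namespace NumTypeLib

variable {n : ℕ} {T : Models.NumericalType n}

theorem genus_one_template (hn : 3 ≤ n) (hmin : T.IsMinimal) (hg : T.genus = 1) :
    ∃ p, Aff p ∧ p.k = n ∧ ∃ (σ : Equiv.Perm (Fin n)) (m w : ℤ), Matches T p σ m w := by
  obtain ⟨p, hp, hk, v, hv⟩ := exists_hasAff hn (all_minusTwo T (by omega) hmin hg)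
  exact ⟨p, hp, hk, hp.good.exists_matches T hv⟩

theorem genus_one_g (hn : 1 < n) (hmin : T.IsMinimal) (hg : T.genus = 1) (i : Fin n) :
    T.g i = 0 := (all_minusTwo T hn hmin hg i).1

theorem Matches.diag (hn : 1 < n) (hmin : T.IsMinimal) (hg : T.genus = 1) {p : Tpl}
    {σ : Equiv.Perm (Fin n)} {m w : ℤ} (h : Matches T p σ m w) (i : Fin n) :
    T.a (σ i) (σ i) = -2 * (p.W i.val * w) := by
  rw [(all_minusTwo T hn hmin hg (σ i)).2, h.hw]

end NumTypeLib
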