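import Groth.Agent.NumType.Families

/-!
Paths in the dual graph and the embeddings of affine templates along paths.
-/

set_option autoImplicit false
open Finset Models

namespace NumTypeLib

variable {n : ℕ} (T : Models.NumericalType n)

/-- `P 0, …, P (L-1)` is an injective path of `(-2)`-indices. -/
structure IsPath (L : ℕ) (P : ℕ → Fin n) : Prop where
  inj : ∀ i j, i < L → j < L → P i = P j → i = j
  adj : ∀ i, i + 1 < L → Adj T (P i) (P (i + 1))
  two : ∀ i, i < L → T.IsMinusTwo (P i)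

/-- `u` is light with respect to `v`: `a_uv ≥ 2 w_u`. -/
def Light (u v : Fin n) : Prop := 2 * T.w u ≤ T.a u v

/-- `a_uv ≥ 3 w_u`. -/
def Trip (u v : Fin n) : Prop := 3 * T.w u ≤ T.a u v

/-- A simply laced edge. -/
def Simple (u v : Fin n) : Prop := T.a u v = T.w u ∧ T.a u v = T.w v

variable {T}

theorem Simple.symm {u v : Fin n} (h : Simple T u v) : Simple T v u :=
  ⟨by rw [a_symm]; exact h.2, by rw [a_symm]; exact h.1⟩

theorem light_or_light {u v : Fin n} (h : Adj T u v) (hns : ¬ Simple T u v) :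
    Light T u v ∨ Light T v u := by
  by_contra hc
  simp only [Light, not_or, not_le] at hc
  rw [a_symm T v u] at hc
  apply hns
  have key : ∀ w : ℤ, 0 < w → w ∣ T.a u v → T.a u v < 2 * w → T.a u v = w := by
    rintro w hw ⟨p, hp⟩ hlt
    have h1 : 0 < w * p := hp ▸ h.2
    have h2 : 0 < p := pos_of_mul_pos_right h1 hw.le
    have h3 : p < 2 := lt_of_mul_lt_mul_left (by linarith [hp]) hw.le
    have : p = 1 := by omega
    rw [hp, this, mul_one]
  exact ⟨key _ (T.w_pos u) (T.w_dvd u v) hc.1,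
    key _ (T.w_pos v) (a_symm T u v ▸ T.w_dvd v u) hc.2⟩

theorem IsPath.rev {L : ℕ} {P : ℕ → Fin n} (h : IsPath T L P) :
    IsPath T L fun t => P (L - 1 - t) where
  inj i j hi hj e := by have := h.inj _ _ (by omega) (by omega) e; omega
  adj i hi := by
    have := h.adj (L - 1 - (i + 1)) (by omega)
    rw [show L - 1 - (i + 1) + 1 = L - 1 - i by omega] at this
    exact this.symm
  two i hi := h.two _ (by omega)

theorem IsPath.seg {L : ℕ} {P : ℕ → Fin n} (h : IsPath T L P) (i k : ℕ) (hik : i + k ≤ L) :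
    IsPath T k fun t => P (t + i) where
  inj a b ha hb e := by have := h.inj _ _ (by omega) (by omega) e; omega
  adj a ha := by
    have := h.adj (a + i) (by omega)
    rwa [show a + i + 1 = a + 1 + i by omega] at this
  two a ha := h.two _ (by omega)

/-- Add a vertex at the end. -/
def snoc (L : ℕ) (P : ℕ → Fin n) (y : Fin n) : ℕ → Fin n := fun t => if t < L then P t else y

theorem snoc_lt {L t : ℕ} (P : ℕ → Fin n) (y : Fin n) (h : t < L) : snoc L P y t = P t := by
  simp [snoc, h]

theorem snoc_self (L : ℕ) (P : ℕ → Fin n) (y : Fin n) : snoc L P y L = y := by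
  simp [snoc]

theorem IsPath.snoc {L : ℕ} {P : ℕ → Fin n} (h : IsPath T L P) (hL : 0 < L) {y : Fin n}
    (hy : ∀ i, i < L → P i ≠ y) (hadj : Adj T (P (L - 1)) y) (h2 : T.IsMinusTwo y) :
    IsPath T (L + 1) (NumTypeLib.snoc L P y) where
  inj i j hi hj e := by
    by_cases hiL : i < L <;> by_cases hjL : j < L
    · rw [snoc_lt P y hiL, snoc_lt P y hjL] at e; exact h.inj _ _ hiL hjL e
    · rw [snoc_lt P y hiL, show j = L by omega, snoc_self] at e; exact absurd e (hy i hiL)
    · rw [snoc_lt P y hjL, show i = L by omega, snoc_self] at e; exact absurd e.symm (hy j hjL)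
    · omega
  adj i hi := by
    by_cases hiL : i + 1 < L
    · rw [snoc_lt P y hiL, snoc_lt P y (by omega)]; exact h.adj i hiL
    · rw [show i + 1 = L by omega, snoc_self, snoc_lt P y (by omega), show i = L - 1 by omega]
      exact hadj
  two i hi := by
    by_cases hiL : i < L
    · rw [snoc_lt P y hiL]; exact h.two i hiL
    · rw [show i = L by omega, snoc_self]; exact h2

/-- Add a vertex at the beginning. -/
def cons (y : Fin n) (P : ℕ → Fin n) : ℕ → Fin n := fun t => if t = 0 then y else P (t - 1)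

@[simp] theorem cons_zero (y : Fin n) (P : ℕ → Fin n) : cons y P 0 = y := rfl

@[simp] theorem cons_succ (y : Fin n) (P : ℕ → Fin n) (t : ℕ) : cons y P (t + 1) = P t := by
  simp [cons]

theorem IsPath.cons {L : ℕ} {P : ℕ → Fin n} (h : IsPath T L P) {y : Fin n}
    (hy : ∀ i, i < L → P i ≠ y) (hadj : Adj T y (P 0)) (h2 : T.IsMinusTwo y) :
    IsPath T (L + 1) (NumTypeLib.cons y P) where
  inj i j hi hj e := by
    rcases i with _ | i <;> rcases j with _ | j <;> simp at e
    · rfl
    · exact absurd e.symm (hy j (by omega))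
    · exact absurd e (hy i (by omega))
    · rw [h.inj i j (by omega) (by omega) e]
  adj i hi := by
    rcases i with _ | i
    · simpa using hadj
    · simpa using h.adj i (by omega)
  two i hi := by
    rcases i with _ | i
    · simpa using h2
    · simpa using h.two i (by omega)

/-- The affine templates. -/
inductive Aff : Tpl → Prop
  | cyc (k : ℕ) (hk : 3 ≤ k) : Aff (cyc k)
  | chainUU (k : ℕ) (hk : 3 ≤ k) : Aff (chainUU k)
  | chainUD (k : ℕ) (hk : 3 ≤ k) : Aff (chainUD k)
  | chainDU (k : ℕ) (hk : 3 ≤ k) : Aff (chainDU k)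
  | dExtUp (k : ℕ) (hk : 4 ≤ k) : Aff (dExtUp k)
  | dExtDown (k : ℕ) (hk : 4 ≤ k) : Aff (dExtDown k)
  | dbl (k : ℕ) (hk : 5 ≤ k) : Aff (dbl k)
  | g2A : Aff g2A
  | g2B : Aff g2B
  | f4A : Aff f4A
  | f4B : Aff f4B
  | e6 : Aff e6
  | e7 : Aff e7
  | e8 : Aff e8

theorem Aff.good {p : Tpl} (h : Aff p) : p.Good := by
  cases h
  · exact cyc_good _ ‹_›
  · exact chainUU_good _ ‹_›
  · exact chainUD_good _ ‹_›
  · exact chainDU_good _ ‹_›
  · exact dExtUp_good _ ‹_›
  · exact dExtDown_good _ ‹_›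
  · exact dbl_good _ ‹_›
  · exact g2A_good
  · exact g2B_good
  · exact f4A_good
  · exact f4B_good
  · exact e6_good
  · exact e7_good
  · exact e8_good

variable (T) in
/-- A copy of an affine template of size `k`. -/
def HasAff (k : ℕ) : Prop := ∃ p, Aff p ∧ p.k = k ∧ ∃ v : Fin p.k → Fin n, Fits T p v

theorem HasAff.size {k : ℕ} (h : HasAff T k) : k = n := by
  obtain ⟨p, hp, rfl, v, hv⟩ := h
  exact hp.good.card_eq T hv

theorem fits_of_pairs (p : Tpl) (hsym : ∀ i j, p.E i j = p.E j i) (v : Fin p.k → Fin n)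
    (hinj : Function.Injective v) (h2 : ∀ s, T.IsMinusTwo (v s))
    (hW : ∀ s, s < p.k → 0 ≤ p.W s)
    (h : ∀ s t : Fin p.k, s.val < t.val → p.E s t = 0 ∨
      (p.E s t * T.w (v s) ≤ p.W s * T.a (v s) (v t) ∧
        p.E s t * T.w (v t) ≤ p.W t * T.a (v s) (v t))) :
    Fits T p v := by
  refine ⟨hinj, h2, fun s t hst => ?_⟩
  have hnn : 0 ≤ p.W s * T.a (v s) (v t) :=
    mul_nonneg (hW s s.isLt) (T.offDiag_nonneg _ _ fun e => hst (hinj e))
  rcases lt_or_gt_of_ne (fun e => hst (Fin.ext e) : s.val ≠ t.val) with hlt | hlt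
  · rcases h s t hlt with h0 | h0
    · rw [h0, zero_mul]; exact hnn
    · exact h0.1
  · rcases h t s hlt with h0 | h0
    · rw [hsym, h0, zero_mul]; exact hnn
    · rw [hsym, a_symm T (v s) (v t)]; exact h0.2

theorem IsPath.vinj {L : ℕ} {P : ℕ → Fin n} (h : IsPath T L P) :
    Function.Injective fun s : Fin L => P s.val :=
  fun a b e => Fin.ext (h.inj _ _ a.isLt b.isLt e)

theorem hasAff_cyc {k : ℕ} (hk : 3 ≤ k) {P : ℕ → Fin n} (hP : IsPath T k P)
    (hclose : Adj T (P (k - 1)) (P 0)) : HasAff T k := by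
  refine ⟨cyc k, .cyc k hk, rfl, fun s => P s.val, fits_of_pairs _
    (fun i j => by simp only [cyc]; exact sym_comm _ i j) _ hP.vinj (fun s => hP.two _ s.isLt)
    (fun _ _ => zero_le_one) fun s t hst => ?_⟩
  have ht : t.val < k := t.isLt
  simp only [cyc, sym_of_lt hst, one_mul]
  split_ifs with h
  · right
    have hadj : Adj T (P s.val) (P t.val) := by
      rcases h with h | ⟨h0, h1⟩
      · rw [h]; exact hP.adj _ (by omega)
      · rw [h0, show t.val = k - 1 by omega]; exact hclose.symm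
    exact ⟨by linarith [w_le_of_pos T hadj.2], by linarith [w_le_of_pos' T hadj.2]⟩
  · left; rfl

/-- The consecutive edges of a path, as needed for `fits_of_pairs`. -/
theorem IsPath.edge {L : ℕ} {P : ℕ → Fin n} (hP : IsPath T L P) {i : ℕ} (hi : i + 1 < L) :
    T.w (P i) ≤ T.a (P i) (P (i + 1)) ∧ T.w (P (i + 1)) ≤ T.a (P i) (P (i + 1)) :=
  ⟨w_le_of_pos T (hP.adj i hi).2, w_le_of_pos' T (hP.adj i hi).2⟩

theorem hasAff_chain {k : ℕ} (hk : 3 ≤ k) {P : ℕ → Fin n} (hP : IsPath T k P)
    (h0 : ¬ Simple T (P 0) (P 1)) (h1 : ¬ Simple T (P (k - 2)) (P (k - 1))) : HasAff T k := by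
  have hA : ∀ {Q : ℕ → Fin n}, IsPath T k Q → Light T (Q 0) (Q 1) →
      Light T (Q (k - 2)) (Q (k - 1)) → HasAff T k := by
    intro Q hQ l0 l1
    refine ⟨chainUU k, .chainUU k hk, rfl, fun s => Q s.val, fits_of_pairs _
      (fun i j => by simp only [chainUU]; exact sym_comm _ i j) _ hQ.vinj
      (fun s => hQ.two _ s.isLt) (by unfold chainUU; pos_side) fun s t hst => ?_⟩
    have ht : t.val < k := t.isLt
    simp only [chainUU, sym_of_lt hst]
    by_cases h : t.val = s.val + 1
    · right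
      obtain ⟨e1, e2⟩ := hQ.edge (i := s.val) (by omega)
      rw [h] at ht ⊢
      unfold Light at l0 l1
      by_cases hs : s.val = 0
      · rw [hs] at e1 e2 ⊢
        constructor <;> simp (disch := omega) only [if_pos, if_neg, if_true, true_or, Nat.zero_add] at * <;> linarith
      by_cases hlast : s.val + 2 = k
      · rw [show k - 2 = s.val by omega, show k - 1 = s.val + 1 by omega] at l1
        constructor <;> simp (disch := omega) only [if_pos, if_neg, if_true] <;> linarith
      constructor <;> simp (disch := omega) only [if_pos, if_neg, if_true] <;> linarith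
    · left; simp [h]
  have hB : ∀ {Q : ℕ → Fin n}, IsPath T k Q → Light T (Q 0) (Q 1) →
      Light T (Q (k - 1)) (Q (k - 2)) → HasAff T k := by
    intro Q hQ l0 l1
    refine ⟨chainUD k, .chainUD k hk, rfl, fun s => Q s.val, fits_of_pairs _
      (fun i j => by simp only [chainUD]; exact sym_comm _ i j) _ hQ.vinj
      (fun s => hQ.two _ s.isLt) (by unfold chainUD; pos_side) fun s t hst => ?_⟩
    have ht : t.val < k := t.isLt
    simp only [chainUD, sym_of_lt hst]
    by_cases h : t.val = s.val + 1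
    · right
      obtain ⟨e1, e2⟩ := hQ.edge (i := s.val) (by omega)
      rw [h] at ht ⊢
      unfold Light at l0 l1
      rw [a_symm T (Q (k - 1))] at l1
      by_cases hs : s.val = 0
      · rw [hs] at e1 e2 ⊢
        constructor <;> simp (disch := omega) only [if_pos, if_neg, if_true, true_or, Nat.zero_add] at * <;> linarith
      by_cases hlast : s.val + 2 = k
      · rw [show k - 2 = s.val by omega, show k - 1 = s.val + 1 by omega] at l1
        constructor <;> simp (disch := omega) only [if_pos, if_neg, if_true] <;> linarith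
      constructor <;> simp (disch := omega) only [if_pos, if_neg, if_true] <;> linarith
    · left; simp [h]
  have hC : ∀ {Q : ℕ → Fin n}, IsPath T k Q → Light T (Q 1) (Q 0) →
      Light T (Q (k - 2)) (Q (k - 1)) → HasAff T k := by
    intro Q hQ l0 l1
    refine ⟨chainDU k, .chainDU k hk, rfl, fun s => Q s.val, fits_of_pairs _
      (fun i j => by simp only [chainDU]; exact sym_comm _ i j) _ hQ.vinj
      (fun s => hQ.two _ s.isLt) (by unfold chainDU; pos_side) fun s t hst => ?_⟩
    have ht : t.val < k := t.isLt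
    simp only [chainDU, sym_of_lt hst]
    by_cases h : t.val = s.val + 1
    · right
      obtain ⟨e1, e2⟩ := hQ.edge (i := s.val) (by omega)
      rw [h] at ht ⊢
      unfold Light at l0 l1
      rw [a_symm T (Q 1)] at l0
      by_cases hs : s.val = 0
      · rw [hs] at e1 e2 ⊢
        constructor <;> simp (disch := omega) only [if_pos, if_neg, if_true, true_or, Nat.zero_add] at * <;> linarith
      by_cases hlast : s.val + 2 = k
      · rw [show k - 2 = s.val by omega, show k - 1 = s.val + 1 by omega] at l1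
        constructor <;> simp (disch := omega) only [if_pos, if_neg, if_true] <;> linarith
      constructor <;> simp (disch := omega) only [if_pos, if_neg, if_true] <;> linarith
    · left; simp [h]
  have a0 := hP.adj 0 (by omega)
  have a1 := hP.adj (k - 2) (by omega)
  rw [show k - 2 + 1 = k - 1 by omega] at a1
  rcases light_or_light a0 h0 with x | x <;> rcases light_or_light a1 h1 with y | y
  · exact hA hP x y
  · exact hB hP x y
  · exact hC hP x y
  · refine hA hP.rev ?_ ?_
    · simpa [show k - 1 - 1 = k - 2 by omega] using y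
    · simpa [show k - 1 - (k - 2) = 1 by omega] using x

/-- A path with a non-simple first edge and an extra neighbour of the last but one vertex. -/
theorem hasAff_dExt {k : ℕ} (hk : 4 ≤ k) {P : ℕ → Fin n} (hP : IsPath T (k - 1) P)
    (h0 : ¬ Simple T (P 0) (P 1)) {y : Fin n} (hy : ∀ i, i < k - 1 → P i ≠ y)
    (h2 : T.IsMinusTwo y) (hyadj : Adj T (P (k - 3)) y) : HasAff T k := by
  let v : ℕ → Fin n := snoc (k - 1) P y
  have hvlast : v (k - 1) = y := snoc_self _ _ _
  have hinj : ∀ i j, i < k → j < k → v i = v j → i = j := by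
    intro i j hi hj e
    by_cases hiL : i < k - 1 <;> by_cases hjL : j < k - 1
    · simp only [v, snoc_lt P y hiL, snoc_lt P y hjL] at e; exact hP.inj _ _ hiL hjL e
    · rw [show j = k - 1 by omega, hvlast] at e
      simp only [v, snoc_lt P y hiL] at e; exact absurd e (hy i hiL)
    · rw [show i = k - 1 by omega, hvlast] at e
      simp only [v, snoc_lt P y hjL] at e; exact absurd e.symm (hy j hjL)
    · omega
  have htwo : ∀ i, i < k → T.IsMinusTwo (v i) := by
    intro i hi
    by_cases h : i < k - 1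
    · simp only [v, snoc_lt P y h]; exact hP.two i h
    · rw [show i = k - 1 by omega, hvlast]; exact h2
  have key : ∀ s t, t < k → ((t = s + 1 ∧ t + 2 ≤ k) ∨ (s + 3 = k ∧ t + 1 = k)) →
      T.w (v s) ≤ T.a (v s) (v t) ∧ T.w (v t) ≤ T.a (v s) (v t) := by
    intro s t ht h
    have hadj : Adj T (v s) (v t) := by
      rcases h with ⟨rfl, h⟩ | ⟨h, h'⟩
      · simp (disch := omega) only [v, snoc_lt]; exact hP.adj s (by omega)
      · rw [show t = k - 1 by omega, hvlast, show s = k - 3 by omega]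
        simp (disch := omega) only [v, snoc_lt]; exact hyadj
    exact ⟨w_le_of_pos T hadj.2, w_le_of_pos' T hadj.2⟩
  have v01 : v 0 = P 0 ∧ v 1 = P 1 := ⟨snoc_lt P y (by omega), snoc_lt P y (by omega)⟩
  rcases light_or_light (hP.adj 0 (by omega)) h0 with x | x
  · refine ⟨dExtDown k, .dExtDown k hk, rfl, fun s => v s.val, fits_of_pairs _
      (fun i j => by simp only [dExtDown]; exact sym_comm _ i j) _
      (fun a b e => Fin.ext (hinj _ _ a.isLt b.isLt e)) (fun s => htwo _ s.isLt)
      (by unfold dExtDown; pos_side) fun s t hst => ?_⟩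
    simp only [dExtDown, sym_of_lt hst]
    split_ifs with h h1 h2' <;> first | (left; rfl) | skip
    all_goals first
      | omega
      | right
    all_goals obtain ⟨e1, e2⟩ := key s t t.isLt h
    · have ht1 : t.val = 1 := by omega
      rw [h1, ht1, v01.1, v01.2] at e1 e2 ⊢
      unfold Light at x
      constructor <;> linarith
    · constructor <;> linarith
  · refine ⟨dExtUp k, .dExtUp k hk, rfl, fun s => v s.val, fits_of_pairs _
      (fun i j => by simp only [dExtUp]; exact sym_comm _ i j) _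
      (fun a b e => Fin.ext (hinj _ _ a.isLt b.isLt e)) (fun s => htwo _ s.isLt)
      (by unfold dExtUp; pos_side) fun s t hst => ?_⟩
    simp only [dExtUp, sym_of_lt hst]
    by_cases h : s.val = 0 ∧ t.val = 1
    · right
      obtain ⟨e1, e2⟩ := key s t t.isLt (by omega)
      rw [h.1, h.2, v01.1, v01.2] at e1 e2 ⊢
      unfold Light at x
      rw [a_symm T (P 1)] at x
      simp only [and_self, if_true, one_ne_zero, if_false]
      constructor <;> linarith
    · rw [if_neg h]
      split_ifs with h' <;> first | (left; rfl) | skip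
      all_goals first
        | omega
        | right
      obtain ⟨e1, e2⟩ := key s t t.isLt (by omega)
      constructor <;> linarith

/-- A path with an extra neighbour of the second and of the last but one vertex. -/
theorem hasAff_dbl {k : ℕ} (hk : 5 ≤ k) {P : ℕ → Fin n} (hP : IsPath T (k - 2) P)
    {y z : Fin n} (hy : ∀ i, i < k - 2 → P i ≠ y) (hz : ∀ i, i < k - 2 → P i ≠ z) (hyz : y ≠ z)
    (h2y : T.IsMinusTwo y) (h2z : T.IsMinusTwo z) (hyadj : Adj T y (P 1))
    (hzadj : Adj T (P (k - 4)) z) : HasAff T k := by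
  let v : ℕ → Fin n := cons y (snoc (k - 2) P z)
  have v0 : v 0 = y := rfl
  have vs : ∀ i, i < k - 2 → v (i + 1) = P i := fun i hi => by simp [v, snoc_lt P z hi]
  have vlast : v (k - 1) = z := by
    obtain ⟨j, rfl⟩ : ∃ j, k = j + 2 := ⟨k - 2, by omega⟩
    simp only [show j + 2 - 1 = j + 1 by omega, show j + 2 - 2 = j by omega, v, cons_succ, snoc_self]
  have hv : ∀ i, i < k → (i = 0 ∧ v i = y) ∨ (i = k - 1 ∧ v i = z) ∨
      ∃ j, j < k - 2 ∧ i = j + 1 ∧ v i = P j := by
    intro i hi
    rcases i with _ | i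
    · exact Or.inl ⟨rfl, v0⟩
    · by_cases h : i < k - 2
      · exact Or.inr (Or.inr ⟨i, h, rfl, vs i h⟩)
      · refine Or.inr (Or.inl ⟨by omega, ?_⟩)
        rw [show i + 1 = k - 1 by omega]; exact vlast
  have hinj : ∀ i j, i < k → j < k → v i = v j → i = j := by
    intro i j hi hj e
    rcases hv i hi with ⟨ri, ei⟩ | ⟨ri, ei⟩ | ⟨a, ha, ri, ei⟩ <;>
      rcases hv j hj with ⟨rj, ej⟩ | ⟨rj, ej⟩ | ⟨b, hb, rj, ej⟩ <;> rw [ei, ej] at e
    · omega
    · exact absurd e hyz
    · exact absurd e.symm (hy b hb)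
    · exact absurd e.symm hyz
    · omega
    · exact absurd e.symm (hz b hb)
    · exact absurd e (hy a ha)
    · exact absurd e (hz a ha)
    · have := hP.inj a b ha hb e; omega
  have htwo : ∀ i, i < k → T.IsMinusTwo (v i) := by
    intro i hi
    rcases hv i hi with ⟨-, e⟩ | ⟨-, e⟩ | ⟨a, ha, -, e⟩ <;> rw [e]
    · exact h2y
    · exact h2z
    · exact hP.two a ha
  refine ⟨dbl k, .dbl k hk, rfl, fun s => v s.val, fits_of_pairs _
    (fun i j => by simp only [dbl]; exact sym_comm _ i j) _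
    (fun a b e => Fin.ext (hinj _ _ a.isLt b.isLt e)) (fun s => htwo _ s.isLt)
    (fun _ _ => zero_le_one) fun s t hst => ?_⟩
  have ht : t.val < k := t.isLt
  simp only [dbl, sym_of_lt hst]
  split_ifs with h
  · right
    have hadj : Adj T (v s.val) (v t.val) := by
      rcases h with ⟨a, b⟩ | ⟨a, b⟩ | ⟨a, b, c⟩ | ⟨a, b⟩
      · rw [a, b, v0, show (2 : ℕ) = 1 + 1 by rfl, vs 1 (by omega)]; exact hyadj
      · rw [a, b]
        have e1 := vs 0 (by omega)
        have e2 := vs 1 (by omega)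
        simp only [zero_add] at e1
        rw [show (2 : ℕ) = 1 + 1 by rfl, e1, e2]
        exact hP.adj 0 (by omega)
      · rw [a, show s.val = (s.val - 1) + 1 by omega, vs _ (by omega), vs _ (by omega)]
        exact hP.adj _ (by omega)
      · rw [show t.val = k - 1 by omega, vlast, show s.val = (k - 4) + 1 by omega,
          vs _ (by omega)]
        exact hzadj
    exact ⟨by linarith [w_le_of_pos T hadj.2], by linarith [w_le_of_pos' T hadj.2]⟩
  · left; rfl

theorem hasAff_g2 {P : ℕ → Fin n} (hP : IsPath T 3 P)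
    (h : Trip T (P 1) (P 2) ∨ Trip T (P 2) (P 1)) : HasAff T 3 := by
  obtain ⟨e1, e2⟩ := hP.edge (i := 0) (by omega)
  obtain ⟨e3, e4⟩ := hP.edge (i := 1) (by omega)
  simp only [Nat.zero_add, Nat.reduceAdd] at e1 e2 e3 e4
  unfold Trip at h
  rw [a_symm T (P 2) (P 1)] at h
  rcases h with x | x
  · refine ⟨g2A, .g2A, rfl, fun s => P s.val, fits_of_pairs _
      (fun i j => by simp only [g2A]; exact sym_comm _ i j) _ hP.vinj
      (fun s => hP.two _ s.isLt) (by decide) fun s t hst => ?_⟩
    obtain ⟨s, hs⟩ := s; obtain ⟨t, ht⟩ := t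
    simp only [g2A] at hs ht hst ⊢
    interval_cases s <;> interval_cases t <;> simp [sym] at hst ⊢ <;>
      constructor <;> linarith
  · refine ⟨g2B, .g2B, rfl, fun s => P s.val, fits_of_pairs _
      (fun i j => by simp only [g2B]; exact sym_comm _ i j) _ hP.vinj
      (fun s => hP.two _ s.isLt) (by decide) fun s t hst => ?_⟩
    obtain ⟨s, hs⟩ := s; obtain ⟨t, ht⟩ := t
    simp only [g2B] at hs ht hst ⊢
    interval_cases s <;> interval_cases t <;> simp [sym] at hst ⊢ <;>
      constructor <;> linarith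

theorem hasAff_f4 {P : ℕ → Fin n} (hP : IsPath T 5 P) (h : ¬ Simple T (P 2) (P 3)) :
    HasAff T 5 := by
  obtain ⟨a1, a2⟩ := hP.edge (i := 0) (by omega)
  obtain ⟨b1, b2⟩ := hP.edge (i := 1) (by omega)
  obtain ⟨c1, c2⟩ := hP.edge (i := 2) (by omega)
  obtain ⟨d1, d2⟩ := hP.edge (i := 3) (by omega)
  simp only [Nat.zero_add, Nat.reduceAdd] at a1 a2 b1 b2 c1 c2 d1 d2
  rcases light_or_light (hP.adj 2 (by omega)) h with x | x <;> unfold Light at x
  · refine ⟨f4A, .f4A, rfl, fun s => P s.val, fits_of_pairs _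
      (fun i j => by simp only [f4A]; exact sym_comm _ i j) _ hP.vinj
      (fun s => hP.two _ s.isLt) (by decide) fun s t hst => ?_⟩
    obtain ⟨s, hs⟩ := s; obtain ⟨t, ht⟩ := t
    simp only [f4A] at hs ht hst ⊢
    interval_cases s <;> interval_cases t <;> simp [sym] at hst ⊢ <;>
      constructor <;> linarith
  · rw [a_symm] at x
    refine ⟨f4B, .f4B, rfl, fun s => P s.val, fits_of_pairs _
      (fun i j => by simp only [f4B]; exact sym_comm _ i j) _ hP.vinj
      (fun s => hP.two _ s.isLt) (by decide) fun s t hst => ?_⟩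
    obtain ⟨s, hs⟩ := s; obtain ⟨t, ht⟩ := t
    simp only [f4B] at hs ht hst ⊢
    interval_cases s <;> interval_cases t <;> simp [sym] at hst ⊢ <;>
      constructor <;> linarith

theorem fits_simply (p : Tpl) (hW : ∀ s : Fin p.k, p.W s = 1)
    (hE : ∀ s t : Fin p.k, s.val < t.val → p.E s t = 0 ∨ p.E s t = 1)
    (hsym : ∀ i j, p.E i j = p.E j i) (v : Fin p.k → Fin n) (hinj : Function.Injective v)
    (h2 : ∀ s, T.IsMinusTwo (v s))
    (hadj : ∀ s t : Fin p.k, s.val < t.val → p.E s t ≠ 0 → Adj T (v s) (v t)) :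
    Fits T p v := by
  refine fits_of_pairs p hsym v hinj h2 (fun s hs => by rw [hW ⟨s, hs⟩]; exact zero_le_one)
    fun s t hst => ?_
  rcases hE s t hst with h | h
  · exact Or.inl h
  · refine Or.inr ?_
    have ha := hadj s t hst (by omega)
    rw [h, hW s, hW t, one_mul, one_mul, one_mul]
    exact ⟨w_le_of_pos T ha.2, w_le_of_pos' T ha.2⟩

theorem hasAff_e6 (v : Fin 7 → Fin n) (hinj : Function.Injective v)
    (h2 : ∀ s, T.IsMinusTwo (v s)) (h01 : Adj T (v 0) (v 1)) (h12 : Adj T (v 1) (v 2))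
    (h34 : Adj T (v 3) (v 4)) (h24 : Adj T (v 2) (v 4)) (h56 : Adj T (v 5) (v 6))
    (h26 : Adj T (v 2) (v 6)) : HasAff T 7 := by
  refine ⟨e6, .e6, rfl, v, fits_simply e6 (fun _ => rfl) (by decide)
    (fun i j => by simp only [e6]; exact sym_comm _ i j) v hinj h2 ?_⟩
  have key : ∀ s t : Fin 7, s.val < t.val → e6.E s t ≠ 0 → (s, t) ∈
      ([(0, 1), (1, 2), (2, 4), (3, 4), (2, 6), (5, 6)] : List (Fin 7 × Fin 7)) := by decide
  intro s t hst hne
  have := key s t hst hne
  simp only [List.mem_cons, Prod.mk.injEq, List.not_mem_nil, or_false] at this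
  rcases this with ⟨rfl, rfl⟩ | ⟨rfl, rfl⟩ | ⟨rfl, rfl⟩ | ⟨rfl, rfl⟩ | ⟨rfl, rfl⟩ | ⟨rfl, rfl⟩ <;>
    assumption

theorem hasAff_e7 (v : Fin 8 → Fin n) (hinj : Function.Injective v)
    (h2 : ∀ s, T.IsMinusTwo (v s)) (h01 : Adj T (v 0) (v 1)) (h12 : Adj T (v 1) (v 2))
    (h23 : Adj T (v 2) (v 3)) (h34 : Adj T (v 3) (v 4)) (h45 : Adj T (v 4) (v 5))
    (h56 : Adj T (v 5) (v 6)) (h37 : Adj T (v 3) (v 7)) : HasAff T 8 := by
  refine ⟨e7, .e7, rfl, v, fits_simply e7 (fun _ => rfl) (by decide)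
    (fun i j => by simp only [e7]; exact sym_comm _ i j) v hinj h2 ?_⟩
  have key : ∀ s t : Fin 8, s.val < t.val → e7.E s t ≠ 0 → (s, t) ∈
      ([(0, 1), (1, 2), (2, 3), (3, 4), (4, 5), (5, 6), (3, 7)] : List (Fin 8 × Fin 8)) := by
    decide
  intro s t hst hne
  have := key s t hst hne
  simp only [List.mem_cons, Prod.mk.injEq, List.not_mem_nil, or_false] at this
  rcases this with ⟨rfl, rfl⟩ | ⟨rfl, rfl⟩ | ⟨rfl, rfl⟩ | ⟨rfl, rfl⟩ | ⟨rfl, rfl⟩ | ⟨rfl, rfl⟩ |
    ⟨rfl, rfl⟩ <;> assumption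

theorem hasAff_e8 (v : Fin 9 → Fin n) (hinj : Function.Injective v)
    (h2 : ∀ s, T.IsMinusTwo (v s)) (h01 : Adj T (v 0) (v 1)) (h12 : Adj T (v 1) (v 2))
    (h23 : Adj T (v 2) (v 3)) (h34 : Adj T (v 3) (v 4)) (h45 : Adj T (v 4) (v 5))
    (h56 : Adj T (v 5) (v 6)) (h67 : Adj T (v 6) (v 7)) (h58 : Adj T (v 5) (v 8)) :
    HasAff T 9 := by
  refine ⟨e8, .e8, rfl, v, fits_simply e8 (fun _ => rfl) (by decide)
    (fun i j => by simp only [e8]; exact sym_comm _ i j) v hinj h2 ?_⟩
  have key : ∀ s t : Fin 9, s.val < t.val → e8.E s t ≠ 0 → (s, t) ∈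
      ([(0, 1), (1, 2), (2, 3), (3, 4), (4, 5), (5, 6), (6, 7), (5, 8)] :
        List (Fin 9 × Fin 9)) := by
    decide
  intro s t hst hne
  have := key s t hst hne
  simp only [List.mem_cons, Prod.mk.injEq, List.not_mem_nil, or_false] at this
  rcases this with ⟨rfl, rfl⟩ | ⟨rfl, rfl⟩ | ⟨rfl, rfl⟩ | ⟨rfl, rfl⟩ | ⟨rfl, rfl⟩ | ⟨rfl, rfl⟩ |
    ⟨rfl, rfl⟩ | ⟨rfl, rfl⟩ <;> assumption

end NumTypeLib
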