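import Groth.Agent.NumType.Basic

/-!
Templates of affine configurations of `(-2)`-indices and their rigidity.
-/

set_option autoImplicit false
open Finset Models

namespace NumTypeLib

variable {n : ℕ} (T : Models.NumericalType n)

/-- A configuration: `E` unit intersection numbers, `W` unit weights, `C` multiplicities. -/
structure Tpl where
  k : ℕ
  E : ℕ → ℕ → ℤ
  W : ℕ → ℤ
  C : ℕ → ℤ

/-- Conditions making a template affine and normalised. -/
structure Tpl.Good (p : Tpl) : Prop where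
  kpos : 0 < p.k
  Wpos : ∀ s, s < p.k → 0 < p.W s
  Cpos : ∀ s, s < p.k → 0 < p.C s
  symm : ∀ s t, s < p.k → t < p.k → p.E s t = p.E t s
  row : ∀ s : Fin p.k, 2 * p.W s * p.C s ≤ ∑ t ∈ univ.erase s, p.E s t * p.C t
  span : ∀ P : ℕ → Prop, P 0 → (∀ s t, s < p.k → t < p.k → p.E s t ≠ 0 → P s → P t) →
    ∀ t, t < p.k → P t
  Wone : ∃ s, s < p.k ∧ p.W s = 1
  Cone : ∃ s, s < p.k ∧ p.C s = 1

/-- `T` contains the configuration `p` (as lower bounds), placed by `v`. -/
structure Fits (p : Tpl) (v : Fin p.k → Fin n) : Prop where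
  inj : Function.Injective v
  two : ∀ s, T.IsMinusTwo (v s)
  le : ∀ s t : Fin p.k, s ≠ t → p.E s t * T.w (v s) ≤ p.W s * T.a (v s) (v t)

/-- `T` is an exact copy of the template after a permutation. -/
structure Matches (p : Tpl) (σ : Equiv.Perm (Fin n)) (m w : ℤ) : Prop where
  hm : ∀ i : Fin n, T.m (σ i) = p.C i.val * m
  hw : ∀ i : Fin n, T.w (σ i) = p.W i.val * w
  ha : ∀ i j : Fin n, i ≠ j → T.a (σ i) (σ j) = p.E i.val j.val * w

theorem row_expand {k : ℕ} (v : Fin k → Fin n) (C : Fin k → ℤ) (r : Fin n) :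
    ∑ j, T.a r j * (∑ s, if v s = j then C s else 0) = ∑ s, T.a r (v s) * C s := by
  simp only [Finset.mul_sum]
  rw [Finset.sum_comm]
  refine Finset.sum_congr rfl fun s _ => ?_
  simp

/-- Rigidity: an affine configuration fills the whole type, exactly. -/
theorem Tpl.Good.rigid {p : Tpl} (hp : p.Good) {v : Fin p.k → Fin n} (hf : Fits T p v) :
    Function.Surjective v ∧
      (∀ s t : Fin p.k, s ≠ t → p.W s * T.a (v s) (v t) = p.E s t * T.w (v s)) ∧
      ∀ s t : Fin p.k, p.C s * T.m (v t) = p.C t * T.m (v s) := by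
  classical
  let x : Fin n → ℤ := fun j => ∑ s : Fin p.k, if v s = j then p.C s else 0
  have hxv : ∀ s, x (v s) = p.C s := fun s => by
    simp [x, hf.inj.eq_iff]
  have hsupp : ∀ j, 0 < x j → ∃ s, v s = j := by
    intro j hj
    by_contra hc
    rw [not_exists] at hc
    simp [x, hc] at hj
  have hdiag : ∀ s : Fin p.k,
      p.W s * (T.a (v s) (v s) * p.C s) = -(T.w (v s) * (2 * p.W s * p.C s)) := by
    intro s
    rw [(hf.two s).2]; ring
  have hW : ∀ s : Fin p.k, p.W s * ∑ t, T.a (v s) (v t) * p.C t =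
      -(T.w (v s) * (2 * p.W s * p.C s)) +
        ∑ t ∈ univ.erase s, p.W s * T.a (v s) (v t) * p.C t := by
    intro s
    rw [← Finset.add_sum_erase univ _ (mem_univ s), mul_add, hdiag, Finset.mul_sum]
    congr 1
    exact Finset.sum_congr rfl fun t _ => by ring
  have hlow : ∀ s : Fin p.k, T.w (v s) * (2 * p.W s * p.C s) ≤
      ∑ t ∈ univ.erase s, p.E s t * T.w (v s) * p.C t := by
    intro s
    calc T.w (v s) * (2 * p.W s * p.C s)
        ≤ T.w (v s) * ∑ t ∈ univ.erase s, p.E s t * p.C t :=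
          mul_le_mul_of_nonneg_left (hp.row s) (T.w_pos _).le
      _ = _ := by rw [Finset.mul_sum]; exact Finset.sum_congr rfl fun t _ => by ring
  have hterm : ∀ s : Fin p.k, ∀ t ∈ univ.erase s,
      p.E s t * T.w (v s) * p.C t ≤ p.W s * T.a (v s) (v t) * p.C t := fun s t ht =>
    mul_le_mul_of_nonneg_right (hf.le s t (mem_erase.mp ht).1.symm) (hp.Cpos t t.isLt).le
  have hnn : ∀ j, 0 ≤ x j := fun j =>
    Finset.sum_nonneg fun s _ => by
      split_ifs
      · exact (hp.Cpos s s.isLt).le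
      · exact le_refl 0
  have hsub : ∀ j, 0 < x j → 0 ≤ ∑ i, T.a j i * x i := by
    intro j hj
    obtain ⟨s, rfl⟩ := hsupp j hj
    rw [row_expand T v (fun t => p.C t)]
    refine nonneg_of_mul_nonneg_right ?_ (hp.Wpos s s.isLt)
    rw [hW]
    linarith [hlow s, Finset.sum_le_sum (hterm s)]
  let s₀ : Fin p.k := ⟨0, hp.kpos⟩
  obtain ⟨hpos, hz, hprop⟩ := sub_invariant T x hnn
    ⟨v s₀, by rw [hxv]; exact hp.Cpos 0 hp.kpos⟩ hsub
  refine ⟨fun j => hsupp j (hpos j), fun s t hst => ?_, fun s t => ?_⟩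
  · have h0 := hz (v s)
    rw [row_expand T v (fun t => p.C t)] at h0
    have h1 := hW s
    rw [h0, mul_zero] at h1
    have heq : ∑ t ∈ univ.erase s, p.E s t * T.w (v s) * p.C t =
        ∑ t ∈ univ.erase s, p.W s * T.a (v s) (v t) * p.C t :=
      le_antisymm (Finset.sum_le_sum (hterm s)) (by linarith [hlow s])
    have := (Finset.sum_eq_sum_iff_of_le (hterm s)).mp heq t
      (mem_erase.mpr ⟨hst.symm, mem_univ t⟩)
    exact (mul_right_cancel₀ (hp.Cpos t t.isLt).ne' this).symm
  · have := hprop (v s) (v t)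
    rwa [hxv, hxv] at this

theorem Tpl.Good.card_eq {p : Tpl} (hp : p.Good) {v : Fin p.k → Fin n} (hf : Fits T p v) :
    p.k = n := by
  have := Fintype.card_of_bijective ⟨hf.inj, (hp.rigid T hf).1⟩
  simpa using this

theorem Tpl.Good.false_of_lt {p : Tpl} (hp : p.Good) {v : Fin p.k → Fin n} (hf : Fits T p v)
    (h : p.k < n) : False := by
  have := hp.card_eq T hf; omega

/-- A copy of an affine template gives exact data. -/
theorem Tpl.Good.exists_matches {p : Tpl} (hp : p.Good) {v : Fin p.k → Fin n} (hf : Fits T p v) :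
    ∃ (σ : Equiv.Perm (Fin n)) (m w : ℤ), Matches T p σ m w := by
  obtain ⟨hsurj, ha, hm⟩ := hp.rigid T hf
  have hk : p.k = n := hp.card_eq T hf
  let e : Fin n ≃ Fin n := (finCongr hk.symm).trans (Equiv.ofBijective v ⟨hf.inj, hsurj⟩)
  obtain ⟨sc, hsc, hC⟩ := hp.Cone
  obtain ⟨sw, hsw, hWw⟩ := hp.Wone
  have hw0 : ∀ t : ℕ, ∀ ht : t < p.k,
      T.w (v ⟨t, ht⟩) * p.W 0 = p.W t * T.w (v ⟨0, hp.kpos⟩) := by
    refine fun t ht => hp.span
      (fun t => ∀ ht : t < p.k, T.w (v ⟨t, ht⟩) * p.W 0 = p.W t * T.w (v ⟨0, hp.kpos⟩))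
      (fun _ => by ring) ?_ t ht ht
    intro s t hs ht hE ih _
    rcases eq_or_ne s t with rfl | hst
    · exact ih hs
    have hne : (⟨s, hs⟩ : Fin p.k) ≠ ⟨t, ht⟩ := fun h => hst (congrArg Fin.val h)
    have h1 := ha _ _ hne
    have h2 := ha _ _ hne.symm
    rw [a_symm T (v ⟨t, ht⟩), ← hp.symm s t hs ht] at h2
    simp only at h1 h2
    have h3 : p.E s t * (p.W t * T.w (v ⟨s, hs⟩)) =
        p.E s t * (p.W s * T.w (v ⟨t, ht⟩)) := by
      linear_combination (p.W s) * h2 - (p.W t) * h1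
    have h4 := mul_left_cancel₀ hE h3
    have h5 : p.W s * (T.w (v ⟨t, ht⟩) * p.W 0) =
        p.W s * (p.W t * T.w (v ⟨0, hp.kpos⟩)) := by
      linear_combination (p.W t) * ih hs - (p.W 0) * h4
    exact mul_left_cancel₀ (hp.Wpos s hs).ne' h5
  have hwall : ∀ t : Fin p.k, T.w (v t) = p.W t * T.w (v ⟨sw, hsw⟩) := by
    intro t
    have h1 := hw0 t t.isLt
    have h2 := hw0 sw hsw
    rw [hWw, one_mul] at h2
    exact mul_right_cancel₀ (hp.Wpos 0 hp.kpos).ne'
      (by linear_combination h1 - (p.W t) * h2)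
  refine ⟨e, T.m (v ⟨sc, hsc⟩), T.w (v ⟨sw, hsw⟩), fun i => ?_, fun i => ?_, fun i j hij => ?_⟩
  · have := hm ⟨sc, hsc⟩ (finCongr hk.symm i)
    simp only [hC, one_mul] at this
    simpa [e] using this
  · simpa [e] using hwall (finCongr hk.symm i)
  · have hne : finCongr hk.symm i ≠ finCongr hk.symm j := fun h => hij ((finCongr hk.symm).injective h)
    have h1 := ha _ _ hne
    rw [hwall (finCongr hk.symm i)] at h1
    have h2 : p.W (finCongr hk.symm i) * T.a (e i) (e j) =
        p.W (finCongr hk.symm i) * (p.E i.val j.val * T.w (v ⟨sw, hsw⟩)) := by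
      simp only [e, Equiv.trans_apply, Equiv.ofBijective_apply]
      rw [h1]
      simp
      ring
    exact mul_left_cancel₀ (hp.Wpos _ (finCongr hk.symm i).isLt).ne' h2

/-- No proper set of `(-2)`-indices has minimal valency two. -/
theorem core (K : Finset (Fin n)) (hK : K.Nonempty) (h2 : ∀ i ∈ K, T.IsMinusTwo i)
    (hdeg : ∀ i ∈ K, ∃ j ∈ K, ∃ j' ∈ K, j ≠ j' ∧ Adj T i j ∧ Adj T i j') :
    K = univ ∧ ∀ i j j', j ≠ j' → Adj T i j → Adj T i j' →
      T.a i j = T.w i ∧ T.a i j' = T.w i ∧ ∀ l, Adj T i l → l = j ∨ l = j' := by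
  classical
  let x : Fin n → ℤ := fun j => if j ∈ K then 1 else 0
  have hrow : ∀ i, ∑ j, T.a i j * x j = ∑ j ∈ K, T.a i j := by
    intro i
    simp [x, Finset.sum_ite_mem]
  have hge : ∀ i ∈ K, 0 ≤ ∑ j, T.a i j * x j := by
    intro i hi
    rw [hrow, ← Finset.add_sum_erase K _ hi, (h2 i hi).2]
    obtain ⟨j, hj, j', hj', hne, ha, ha'⟩ := hdeg i hi
    have hle : T.a i j + T.a i j' ≤ ∑ l ∈ K.erase i, T.a i l := by
      rw [← Finset.sum_pair hne]
      refine Finset.sum_le_sum_of_subset_of_nonneg ?_ ?_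
      · intro l hl
        rcases mem_insert.mp hl with rfl | hl
        · exact mem_erase.mpr ⟨ha.1.symm, hj⟩
        · rw [mem_singleton] at hl; subst hl; exact mem_erase.mpr ⟨ha'.1.symm, hj'⟩
      · intro l hl _
        exact T.offDiag_nonneg i l (mem_erase.mp hl).1.symm
    linarith [w_le_of_pos T ha.2, w_le_of_pos T ha'.2]
  obtain ⟨hpos, hz, -⟩ := sub_invariant T x (fun j => by simp only [x]; split_ifs <;> norm_num)
    (by obtain ⟨i, hi⟩ := hK; exact ⟨i, by simp [x, hi]⟩)
    (fun i hi => hge i (by by_contra h; simp [x, h] at hi))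
  have huniv : K = univ := Finset.eq_univ_iff_forall.mpr fun i => by
    have := hpos i
    by_contra h
    simp [x, h] at this
  refine ⟨huniv, fun i j j' hne ha ha' => ?_⟩
  have hi : i ∈ K := huniv ▸ mem_univ i
  have h0 := hz i
  rw [hrow, ← Finset.add_sum_erase K _ hi, (h2 i hi).2, huniv] at h0
  have hsplit : ∀ l, Adj T i l → l ≠ j → l ≠ j' → False := by
    intro l hl h1 h1'
    have hsub : ({j, j', l} : Finset (Fin n)) ⊆ univ.erase i := by
      intro y hy
      simp only [mem_insert, mem_singleton] at hy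
      refine mem_erase.mpr ⟨?_, mem_univ y⟩
      rcases hy with rfl | rfl | rfl
      · exact ha.1.symm
      · exact ha'.1.symm
      · exact hl.1.symm
    have := Finset.sum_le_sum_of_subset_of_nonneg (f := fun l => T.a i l) hsub
      (fun y hy _ => T.offDiag_nonneg i y (mem_erase.mp hy).1.symm)
    rw [Finset.sum_insert (by simp [hne, Ne.symm h1]), Finset.sum_pair (Ne.symm h1')] at this
    linarith [w_le_of_pos T ha.2, w_le_of_pos T ha'.2, w_le_of_pos T hl.2, T.w_pos i]
  have hpair : T.a i j + T.a i j' = ∑ l ∈ univ.erase i, T.a i l := by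
    rw [← Finset.sum_pair hne]
    refine Finset.sum_subset ?_ ?_
    · intro y hy
      simp only [mem_insert, mem_singleton] at hy
      refine mem_erase.mpr ⟨?_, mem_univ y⟩
      rcases hy with rfl | rfl
      · exact ha.1.symm
      · exact ha'.1.symm
    · intro y hy hny
      simp only [mem_insert, mem_singleton, not_or] at hny
      by_contra hne0
      exact hsplit y (adj_of_ne_zero T (mem_erase.mp hy).1.symm hne0) hny.1 hny.2
  refine ⟨?_, ?_, fun l hl => ?_⟩
  · linarith [w_le_of_pos T ha.2, w_le_of_pos T ha'.2]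
  · linarith [w_le_of_pos T ha.2, w_le_of_pos T ha'.2]
  · by_contra h
    rw [not_or] at h
    exact hsplit l hl h.1 h.2

end NumTypeLib
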