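import Groth.Agent.NumTypeContrLib.Main
import Groth.Agent.NumType.Graph
import Groth.Agent.S2179

/-!
The `ℓ`-torsion of the Picard group of a numerical type, for a big prime `ℓ`.
-/

set_option autoImplicit false
open Finset Models Matrix

namespace NumTypeLib

variable {n : ℕ} (T : Models.NumericalType n)

/-- The edges of the dual graph. -/
abbrev Edge : Type := {p : Fin n × Fin n // p.1 < p.2 ∧ 0 < T.a p.1 p.2}

theorem card_edge : Fintype.card (Edge T) = T.edgeCount := by
  rw [Fintype.card_subtype]; rfl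

variable (F : Type) [Field F]

/-- The incidence matrix. -/
def inc : Matrix (Edge T) (Fin n) F := fun e k => (if k = e.1.2 then 1 else 0) - (if k = e.1.1 then 1 else 0)

/-- The flow matrix. -/
def flow : Matrix (Edge T) (Fin n) F := fun e k =>
  (T.a e.1.1 e.1.2 : F) * ((T.m e.1.1 : F) * (if k = e.1.2 then 1 else 0) -
    (T.m e.1.2 : F) * (if k = e.1.1 then 1 else 0))

/-- The intersection matrix over `F`. -/
def amod : Matrix (Fin n) (Fin n) F := T.a.map fun z => (z : F)

theorem inc_mulVec (x : Fin n → F) (e : Edge T) : (inc T F).mulVec x e = x e.1.2 - x e.1.1 := by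
  simp [inc, Matrix.mulVec, dotProduct, sub_mul, sum_sub_distrib]

theorem flow_mulVec (x : Fin n → F) (e : Edge T) :
    (flow T F).mulVec x e = (T.a e.1.1 e.1.2 : F) * ((T.m e.1.1 : F) * x e.1.2 - (T.m e.1.2 : F) * x e.1.1) := by
  simp [flow, Matrix.mulVec, dotProduct, mul_sub, sub_mul, sum_sub_distrib, mul_assoc]

theorem amod_mulVec (x : Fin n → F) (i : Fin n) : (amod T F).mulVec x i = ∑ j, (T.a i j : F) * x j := rfl

theorem amod_m (i : Fin n) : ∑ j, (T.a i j : F) * (T.m j : F) = 0 := by
  have h := congrArg (fun z : ℤ => (z : F)) (row_sum T i)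
  simpa using h

/-- The flow of a kernel vector has no divergence. -/
theorem incT_flow (x : Fin n → F) (hx : (amod T F).mulVec x = 0) :
    (inc T F)ᵀ.mulVec ((flow T F).mulVec x) = 0 := by
  classical
  funext i
  let c : Fin n → Fin n → F := fun p q => (T.a p q : F) * ((T.m p : F) * x q - (T.m q : F) * x p)
  have hanti : ∀ p q, c q p = -c p q := fun p q => by simp only [c, a_symm T q p]; ring
  have hzero : ∀ p q, ¬ 0 < T.a p q → c p q = 0 := fun p q h => by
    rcases eq_or_ne p q with rfl | hne
    · simp [c]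
    · simp [c, le_antisymm (not_lt.1 h) (T.offDiag_nonneg p q hne)]
  have hrow : ∑ j, c i j = 0 := by
    have e : ∀ j, c i j = (T.m i : F) * ((T.a i j : F) * x j) - x i * ((T.a i j : F) * (T.m j : F)) := fun j => by
      simp only [c]; ring
    rw [sum_congr rfl fun j _ => e j, sum_sub_distrib, ← mul_sum, ← mul_sum, amod_m T F i,
      ← amod_mulVec T F x i, hx, Pi.zero_apply, mul_zero, mul_zero, sub_zero]
  show ∑ e : Edge T, inc T F e i * (flow T F).mulVec x e = 0
  rw [sum_congr rfl (fun e _ => by rw [flow_mulVec T F x e]; rfl :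
      ∀ e ∈ (univ : Finset (Edge T)), inc T F e i * (flow T F).mulVec x e =
        ((if i = e.1.2 then (1 : F) else 0) - (if i = e.1.1 then 1 else 0)) * c e.1.1 e.1.2)]
  rw [← sum_subtype (univ.filter fun p : Fin n × Fin n => p.1 < p.2 ∧ 0 < T.a p.1 p.2) (by simp)
    (fun p : Fin n × Fin n => ((if i = p.2 then (1 : F) else 0) - (if i = p.1 then 1 else 0)) * c p.1 p.2),
    sum_filter, Fintype.sum_prod_type]
  have e1 : ∀ p q : Fin n, (if p < q ∧ 0 < T.a p q then
      ((if i = q then (1 : F) else 0) - (if i = p then 1 else 0)) * c p q else 0) =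
      (if i = q then (if p < q then c p q else 0) else 0) - (if i = p then (if p < q then c p q else 0) else 0) := by
    intro p q
    by_cases hpq : p < q
    · by_cases hp : 0 < T.a p q
      · simp [hpq, hp, sub_mul]
      · simp [hpq, hp, hzero p q hp]
    · simp [hpq]
  simp only [e1, sum_sub_distrib]
  rw [sum_congr rfl fun p _ => sum_ite_eq univ i fun q => if p < q then c p q else 0]
  simp only [mem_univ, if_true]
  rw [sum_comm (f := fun p q => if i = p then (if p < q then c p q else 0) else 0),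
    sum_congr rfl fun q _ => sum_ite_eq univ i fun p => if p < q then c p q else 0]
  simp only [mem_univ, if_true]
  rw [← sum_sub_distrib, ← neg_eq_zero, ← sum_neg_distrib]
  refine (sum_congr rfl fun j _ => ?_).trans hrow
  rcases lt_trichotomy i j with h | h | h
  · simp [h, h.le.not_gt]
  · subst h; simp [c]
  · simp [h, h.le.not_gt, hanti i j]

theorem connected_const {y : Fin n → F} (h : ∀ p q, 0 < T.a p q → p < q → y p = y q) :
    ∀ i j, y i = y j := by
  classical
  intro i j
  have h' : ∀ p q, Adj T p q → y p = y q := fun p q hpq => by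
    rcases lt_or_gt_of_ne hpq.1 with hlt | hlt
    · exact h p q hpq.2 hlt
    · exact (h q p hpq.symm.2 hlt).symm
  have hu := eq_univ_of_closed T (univ.filter fun x => y i = y x) ⟨i, by simp⟩
    (fun a ha b hab => by simp only [mem_filter, mem_univ, true_and] at ha ⊢; rw [ha, h' a b hab])
  have hj : j ∈ univ.filter fun x => y i = y x := by rw [hu]; exact mem_univ j
  exact (mem_filter.1 hj).2

open Module in
/-- The kernel of the intersection matrix over `F` has dimension at most `1 + topGenus`. -/
theorem finrank_ker_le (hm : ∀ i, (T.m i : F) ≠ 0) (ha : ∀ i j, 0 < T.a i j → (T.a i j : F) ≠ 0) :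
    (finrank F (LinearMap.ker (amod T F).mulVecLin) : ℤ) ≤ 1 + T.topGenus := by
  classical
  let i₀ : Fin n := ⟨0, T.pos⟩
  let K := LinearMap.ker (amod T F).mulVecLin
  let g : K →ₗ[F] (Edge T → F) := (flow T F).mulVecLin.comp K.subtype
  have hgker : finrank F (LinearMap.ker g) ≤ 1 := by
    let ev : LinearMap.ker g →ₗ[F] F :=
      (LinearMap.proj i₀).comp (K.subtype.comp (LinearMap.ker g).subtype)
    refine (LinearMap.finrank_le_finrank_of_injective (f := ev) ?_).trans (finrank_self F).le
    rw [injective_iff_map_eq_zero]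
    rintro ⟨⟨x, hxK⟩, hx⟩ h0
    have hc : ∀ p q, 0 < T.a p q → p < q → x p / (T.m p : F) = x q / (T.m q : F) := by
      intro p q hpq hlt
      have h := congrFun (show (flow T F).mulVec x = 0 from hx) ⟨(p, q), hlt, hpq⟩
      rw [flow_mulVec, Pi.zero_apply] at h
      rw [div_eq_div_iff (hm p) (hm q)]
      linear_combination -((mul_eq_zero.1 h).resolve_left (ha p q hpq))
    refine Subtype.ext (Subtype.ext (funext fun i => ?_))
    have hi := connected_const T F (y := fun i => x i / (T.m i : F)) hc i i₀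
    rw [show x i₀ = 0 from h0, zero_div, div_eq_zero_iff] at hi
    exact hi.resolve_right (hm i)
  have hgim : LinearMap.range g ≤ LinearMap.ker (inc T F)ᵀ.mulVecLin := by
    rintro _ ⟨⟨x, hxK⟩, rfl⟩
    exact incT_flow T F x hxK
  have h1 := g.finrank_range_add_finrank_ker
  have h2 := Submodule.finrank_mono hgim
  have h3 := (inc T F)ᵀ.mulVecLin.finrank_range_add_finrank_ker
  have h4 := (inc T F).mulVecLin.finrank_range_add_finrank_ker
  have hD : finrank F (LinearMap.ker (inc T F).mulVecLin) ≤ 1 := by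
    let ev : LinearMap.ker (inc T F).mulVecLin →ₗ[F] F := (LinearMap.proj i₀).comp (Submodule.subtype _)
    refine (LinearMap.finrank_le_finrank_of_injective (f := ev) ?_).trans (finrank_self F).le
    rw [injective_iff_map_eq_zero]
    rintro ⟨x, hx⟩ h0
    refine Subtype.ext (funext fun i => ?_)
    refine (connected_const T F (y := x) (fun p q hpq hlt => ?_) i i₀).trans h0
    have h := congrFun (show (inc T F).mulVec x = 0 from hx) ⟨(p, q), hlt, hpq⟩
    rw [inc_mulVec, Pi.zero_apply, sub_eq_zero] at h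
    exact h.symm
  have hr : finrank F (LinearMap.range (inc T F)ᵀ.mulVecLin) = finrank F (LinearMap.range (inc T F).mulVecLin) :=
    Matrix.rank_transpose (inc T F)
  rw [finrank_fintype_fun_eq_card, card_edge] at h3
  rw [finrank_fintype_fun_eq_card, Fintype.card_fin] at h4
  rw [Models.NumericalType.topGenus]
  show (finrank F K : ℤ) ≤ _
  omega

/-- A minimal type: the `ℓ`-torsion has at most `ℓ ^ topGenus` elements. -/
theorem card_torsion_cokerA (ℓ : ℕ) [Fact ℓ.Prime] (hm : ∀ i, ¬ (ℓ : ℤ) ∣ T.m i)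
    (ha : ∀ i j, 0 < T.a i j → ¬ (ℓ : ℤ) ∣ T.a i j) (S : Type) [AddCommGroup S] (f : S →+ T.CokerA)
    (hf : Function.Injective f) (hS : ∀ s : S, (ℓ : ℤ) • s = 0) :
    Finite S ∧ Nat.card S ≤ ℓ ^ T.topGenus.toNat := by
  classical
  have hmF : ∀ i, (T.m i : ZMod ℓ) ≠ 0 := fun i => by
    rw [ne_eq, ZMod.intCast_zmod_eq_zero_iff_dvd]; exact hm i
  have haF : ∀ i j, 0 < T.a i j → (T.a i j : ZMod ℓ) ≠ 0 := fun i j h => by
    rw [ne_eq, ZMod.intCast_zmod_eq_zero_iff_dvd]; exact ha i j h
  let F := ZMod ℓ
  let K := LinearMap.ker (amod T F).mulVecLin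
  let mb : Fin n → F := fun i => (T.m i : F)
  have hmb : mb ∈ K := funext fun i => amod_m T F i
  let P : Submodule F K := Submodule.span F {⟨mb, hmb⟩}
  have hK := finrank_ker_le T F hmF haF
  have hP : Module.finrank F P = 1 := finrank_span_singleton (fun h =>
    hmF ⟨0, T.pos⟩ (congrFun (congrArg Subtype.val h) ⟨0, T.pos⟩))
  have hQ := P.finrank_quotient_add_finrank
  choose x hx using fun s : S => Submodule.Quotient.mk_surjective _ (f s)
  have hex : ∀ s : S, ∃ y : Fin n → ℤ, T.a.mulVec y = fun i => (ℓ : ℤ) * x s i := fun s => by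
    have h : Submodule.Quotient.mk (p := LinearMap.range T.a.mulVecLin) ((ℓ : ℤ) • x s) = 0 := by
      rw [Submodule.Quotient.mk_smul, hx, ← map_zsmul, hS, map_zero]
    obtain ⟨y, hy⟩ := (Submodule.Quotient.mk_eq_zero _).1 h
    exact ⟨y, hy.trans (funext fun i => rfl)⟩
  choose y hy using hex
  have hyK : ∀ s, (fun i => (y s i : F)) ∈ K := fun s => funext fun i => by
    have h := congrArg (fun z : ℤ => (z : F)) (congrFun (hy s) i)
    simp only [Matrix.mulVec, dotProduct, Int.cast_sum, Int.cast_mul, Int.cast_natCast, F, ZMod.natCast_self,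
      zero_mul] at h
    exact h
  let φ : S → K ⧸ P := fun s => Submodule.Quotient.mk ⟨_, hyK s⟩
  have hφ : Function.Injective φ := fun s t h => by
    obtain ⟨c, hc⟩ := Submodule.mem_span_singleton.1 ((Submodule.Quotient.eq P).1 h)
    obtain ⟨cz, rfl⟩ := ZMod.intCast_surjective c
    have hdvd : ∀ i, (ℓ : ℤ) ∣ y s i - y t i - cz * T.m i := fun i => by
      rw [← ZMod.intCast_zmod_eq_zero_iff_dvd]
      have hi := congrFun (congrArg Subtype.val hc) i
      push_cast
      simp only [SetLike.val_smul, Pi.smul_apply, smul_eq_mul, AddSubgroupClass.coe_sub, Pi.sub_apply, mb] at hi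
      rw [← hi, sub_self]
    choose z hz using hdvd
    refine hf ((hx s).symm.trans (Eq.trans ?_ (hx t)))
    rw [Submodule.Quotient.eq]
    refine ⟨z, funext fun i => ?_⟩
    have hl : (ℓ : ℤ) ≠ 0 := by exact_mod_cast (Fact.out : ℓ.Prime).ne_zero
    apply mul_left_cancel₀ hl
    show (ℓ : ℤ) * (T.a.mulVec z) i = (ℓ : ℤ) * (x s i - x t i)
    have e1 := congrFun (hy s) i
    have e2 := congrFun (hy t) i
    simp only [Matrix.mulVec, dotProduct] at e1 e2 ⊢
    rw [mul_sum, mul_sub, ← e1, ← e2, ← sub_zero (∑ j, T.a i j * y s j - _),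
      ← mul_zero cz, ← row_sum T i, mul_sum, ← sum_sub_distrib, ← sum_sub_distrib]
    exact sum_congr rfl fun j _ => by rw [mul_left_comm, ← hz j]; ring
  haveI : Finite (K ⧸ P) := Module.finite_of_finite F
  refine ⟨Finite.of_injective φ hφ, (Nat.card_le_card_of_injective φ hφ).trans ?_⟩
  rw [Module.natCard_eq_pow_finrank (K := F), Nat.card_zmod]
  refine Nat.pow_le_pow_right (Fact.out : ℓ.Prime).pos ?_
  have : (Module.finrank F K : ℤ) ≤ 1 + T.topGenus := hK
  omega

theorem exists_minimal : ∀ (n : ℕ) (T : Models.NumericalType n),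
    ∃ (k : ℕ) (T' : Models.NumericalType k), T'.IsMinimal ∧ T'.genus = T.genus ∧
      ∃ f : T.Pic →+ T'.Pic, Function.Injective f := by
  intro n
  induction n with
  | zero => intro T; exact absurd T.pos (by omega)
  | succ n ih =>
    intro T
    by_cases hmin : T.IsMinimal
    · exact ⟨_, T, hmin, rfl, AddMonoidHom.id _, Function.injective_id⟩
    obtain ⟨i, hi⟩ : ∃ i, T.IsMinusOne i := by
      unfold Models.NumericalType.IsMinimal at hmin
      push Not at hmin
      exact hmin
    rcases Nat.eq_zero_or_pos n with rfl | hn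
    · have h0 := row_sum T i
      rw [Fin.sum_univ_one, Subsingleton.elim (0 : Fin 1) i, hi.2] at h0
      exact absurd h0 (by nlinarith [T.w_pos i, T.m_pos i])
    let σ := Equiv.swap i (Fin.last n)
    have h : (NumTypeContrLib.perm T σ).IsMinusOne (Fin.last n) := by
      show T.g (σ (Fin.last n)) = 0 ∧ T.a (σ (Fin.last n)) (σ (Fin.last n)) = -T.w (σ (Fin.last n))
      rw [Equiv.swap_apply_right]
      exact hi
    obtain ⟨f, hf, -⟩ := NumTypeContrLib.exists_pic_hom _ h (NumTypeContrLib.isContraction _ h)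
    obtain ⟨k, T', h1, h2, f', hf'⟩ := ih (NumTypeContrLib.contract _ h)
    obtain ⟨e⟩ := NumTypeContrLib.pic_perm T σ
    refine ⟨k, T', h1, h2.trans ?_, (f'.comp f).comp e.toAddMonoidHom, (hf'.comp hf).comp e.injective⟩
    rw [NumTypeContrLib.genus_eq _ h (NumTypeContrLib.isContraction _ h), NumTypeContrLib.genus_perm]

end NumTypeLib
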